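/-
Coded elements of the centraliser 2^(1+8).Sp6(2) inside a group (owner: helper72).

An element `x v * ψ g` is coded by `v` and the images of the eight basis vectors under `g`, packed in one number.

* `Coded z` : the letters and their relations
* `cmul`, `cone`, `letC`, `vecC` : the codes
* `Is.mul`, `Is.one`, `Coded.eq_iff` : the product is computed on codes and equality is equality of codes
* `Coded.exists_code` : every element commuting with `z` is coded
-/
import Cfsg.Agent.Lib.CoTwoType.SpGen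
import Cfsg.Agent.Lib.CoTwoType.Setup

set_option autoImplicit false
set_option maxRecDepth 20000

namespace Cfsg.Agent.CoTwoClose

open CoTwoType (qm sig img imgs prodBits cexp longW edge bB isSimpleGroup_G0)
open Multiplier.Sp6 (G0)

/-- The letters of the centraliser of `z`. -/
structure Coded {T : Type*} [Group T] (z : T) where
  /-- The seven lifts. -/
  h : Fin 7 → T
  /-- The extraspecial group. -/
  x : ℕ → T
  x_mul : ∀ a < 512, ∀ b < 512, x a * x b = x (qm a b)
  x_inj : ∀ a < 512, ∀ b < 512, x a = x b → a = b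
  x_z : x 256 = z
  h_conj : ∀ (j : Fin 7), ∀ a < 512, h j * x a * (h j)⁻¹ = x (sig j.val a)
  rel : ∀ i j, (h i * h j) ^ cexp i j = 1
  long : (longW.map h).prod = 1
  gen : ∀ c, c * z = z * c → c ∈ Subgroup.closure (Set.range h ∪ x '' Set.Iio 512)

/-! ### Codes -/

/-- The vector of a code. -/
def fV (e : ℕ) : ℕ := e &&& 511

/-- The image of a basis vector. -/
def fM (e S : ℕ) : ℕ := (e >>> (9 * (S + 1))) &&& 511

/-- Nine numbers below 512 in one. -/
def pack (v a₀ a₁ a₂ a₃ a₄ a₅ a₆ a₇ : ℕ) : ℕ :=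
  v + 512 * (a₀ + 512 * (a₁ + 512 * (a₂ + 512 * (a₃ + 512 * (a₄ + 512 * (a₅ + 512 * (a₆ + 512 * a₇)))))))

/-- The part of a vector in the centre. -/
def zPart (v : ℕ) : ℕ :=
  bif v.testBit 8 != (prodBits (fun S => 1 <<< S) v 8).testBit 8 then 256 else 0

/-- The action of a code on a vector. -/
def appC (e v : ℕ) : ℕ := qm (prodBits (fM e) v 8) (zPart v)

/-- The product of codes. -/
def cmul (e f : ℕ) : ℕ :=
  pack (qm (fV e) (appC e (fV f))) (appC e (fM f 0)) (appC e (fM f 1)) (appC e (fM f 2)) (appC e (fM f 3))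
    (appC e (fM f 4)) (appC e (fM f 5)) (appC e (fM f 6)) (appC e (fM f 7))

/-- The code of `x v`. -/
def vecC (v : ℕ) : ℕ := pack v 1 2 4 8 16 32 64 128

/-- The code of one. -/
def cone : ℕ := vecC 0

/-- The code of a lift. -/
def letC (j : ℕ) : ℕ :=
  pack 0 (img j 0) (img j 1) (img j 2) (img j 3) (img j 4) (img j 5) (img j 6) (img j 7)

/-- The code of a product of lifts. -/
def wordE (w : List ℕ) : ℕ := w.foldr (fun j e => cmul (letC j) e) cone

theorem fV_lt (e : ℕ) : fV e < 512 := Nat.lt_succ_of_le Nat.and_le_right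

theorem fM_lt (e S : ℕ) : fM e S < 512 := Nat.lt_succ_of_le Nat.and_le_right

theorem qm_lt {a b : ℕ} (ha : a < 512) (hb : b < 512) : qm a b < 512 := by
  have h : qm a b < 2 ^ 9 := by
    rw [qm]
    refine Nat.xor_lt_two_pow (Nat.xor_lt_two_pow ha hb) ?_
    cases bB a b <;> norm_num
  simpa using h

theorem prodBits_lt {f : ℕ → ℕ} (hf : ∀ S, f S < 512) (v : ℕ) : ∀ n, prodBits f v n < 512
  | 0 => by simp [prodBits]
  | n + 1 => by
    rw [prodBits]
    cases v.testBit n
    · exact prodBits_lt hf v n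
    · exact qm_lt (prodBits_lt hf v n) (hf n)

theorem zPart_or (v : ℕ) : zPart v = 0 ∨ zPart v = 256 := by
  rw [zPart]
  cases v.testBit 8 != (prodBits (fun S => 1 <<< S) v 8).testBit 8
  · exact Or.inl rfl
  · exact Or.inr rfl

theorem zPart_lt (v : ℕ) : zPart v < 512 := by rcases zPart_or v with h | h <;> omega

theorem appC_lt (e v : ℕ) : appC e v < 512 := qm_lt (prodBits_lt (fM_lt e) v 8) (zPart_lt v)

theorem fV_pack {v a₀ a₁ a₂ a₃ a₄ a₅ a₆ a₇ : ℕ} (hv : v < 512) : fV (pack v a₀ a₁ a₂ a₃ a₄ a₅ a₆ a₇) = v := by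
  rw [fV, show (511 : ℕ) = 2 ^ 9 - 1 from rfl, Nat.and_two_pow_sub_one_eq_mod, pack]
  omega

theorem fM_pack {v : ℕ} (hv : v < 512) {f : ℕ → ℕ} (hf : ∀ S, f S < 512) :
    ∀ S < 8, fM (pack v (f 0) (f 1) (f 2) (f 3) (f 4) (f 5) (f 6) (f 7)) S = f S := by
  intro S hS
  have := hf 0; have := hf 1; have := hf 2; have := hf 3
  have := hf 4; have := hf 5; have := hf 6; have := hf 7
  rw [fM, show (511 : ℕ) = 2 ^ 9 - 1 from rfl, Nat.and_two_pow_sub_one_eq_mod, Nat.shiftRight_eq_div_pow, pack]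
  interval_cases S <;> norm_num <;> omega

theorem check_id : ∀ v < 512, qm (prodBits (fun S => 1 <<< S) v 8) (zPart v) = v := by decide +kernel

theorem check_move : (List.range 512).any (fun v => sig 0 v != v && sig 0 v != v ^^^ 256) = true := by
  decide +kernel

theorem check_centre : ∀ a < 512, qm a 256 = qm 256 a := by decide +kernel

theorem check_qm_z : ∀ a < 512, qm a 256 = a ^^^ 256 := by decide +kernel

theorem check_img : ∀ j < 7, ∀ S < 8, sig j (1 <<< S) = img j S := by decide +kernel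

theorem check_inv : ∀ v < 512, (bif bB v v then v ^^^ 256 else v) < 512 ∧
    qm v (bif bB v v then v ^^^ 256 else v) = 0 := by decide +kernel

theorem exists_inv {v : ℕ} (hv : v < 512) : ∃ q < 512, qm v q = 0 :=
  ⟨_, (check_inv v hv).1, (check_inv v hv).2⟩

theorem qm_comm_or {p a : ℕ} (hp : p < 512) (ha : a < 512) : qm p a = qm a p ∨ qm p a = qm (qm a p) 256 := by
  rw [check_qm_z _ (qm_lt ha hp), qm, qm, Nat.xor_comm p a]
  cases bB p a <;> cases bB a p <;> simp [Nat.xor_assoc]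

/-! ### Soundness -/

namespace Coded

variable {T : Type*} [Group T] {z : T} (L : Coded z)

/-- The map from Sp6(2). -/
noncomputable def psi : G0 →* T := (CoTwoType.exists_hom L.h L.rel L.long).choose

theorem psi_T (j : Fin 7) : L.psi (CoTwoType.T j) = L.h j :=
  (CoTwoType.exists_hom L.h L.rel L.long).choose_spec j

theorem x_zero : L.x 0 = 1 :=
  mul_eq_left.1 ((L.x_mul 0 (by norm_num) 0 (by norm_num)).trans (by rfl))

theorem x_mul_z {a : ℕ} (ha : a < 512) : L.x a * z = L.x (qm a 256) :=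
  (congrArg (L.x a * ·) L.x_z.symm).trans (L.x_mul a ha 256 (by norm_num))

theorem z_mul_x {a : ℕ} (ha : a < 512) : z * L.x a = L.x (qm 256 a) :=
  (congrArg (· * L.x a) L.x_z.symm).trans (L.x_mul 256 (by norm_num) a ha)

theorem x_comm_z {a : ℕ} (ha : a < 512) : L.x a * z = z * L.x a := by
  rw [L.x_mul_z ha, L.z_mul_x ha, check_centre a ha]

include L in
theorem z_sq : z * z = 1 := by
  calc z * z = L.x 256 * z := by rw [L.x_z]
    _ = L.x (qm 256 256) := L.x_mul_z (by norm_num)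
    _ = 1 := by rw [show qm 256 256 = 0 by rfl, L.x_zero]

theorem h_comm_z (j : Fin 7) : L.h j * z = z * L.h j := by
  have h := L.h_conj j 256 (by norm_num)
  rw [CoTwoType.sig_centre j.val j.isLt, L.x_z] at h
  exact mul_inv_eq_iff_eq_mul.1 h

/-- Every element of Sp6(2) is a product of the transvections. -/
theorem gen_induction {P : G0 → Prop} (g : G0) (one : P 1) (mul : ∀ (j : Fin 7) (g : G0), P g → P (CoTwoType.T j * g)) :
    P g := by
  obtain ⟨w, rfl⟩ := CoTwoType.pi_surjective g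
  induction w using (CoxeterMatrix.E₇).toCoxeterSystem.simple_induction_left with
  | one => rw [map_one]; exact one
  | mul_simple_left w j ih =>
    rw [map_mul, show (CoxeterMatrix.E₇).toCoxeterSystem.simple j = CoTwoType.ws j from rfl, CoTwoType.pi_ws]
    exact mul j _ ih

theorem conj_x (g : G0) : ∀ a < 512, ∃ b < 512, L.psi g * L.x a * (L.psi g)⁻¹ = L.x b := by
  refine gen_induction (P := fun g => ∀ a < 512, ∃ b < 512, L.psi g * L.x a * (L.psi g)⁻¹ = L.x b) g
    (fun a ha => ⟨a, ha, by simp⟩) fun j g ih a ha => ?_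
  obtain ⟨b, hb, e⟩ := ih a ha
  refine ⟨sig j.val b, CoTwoType.sig_lt j.val j.isLt b hb, ?_⟩
  rw [map_mul, L.psi_T, mul_inv_rev, ← L.h_conj j b hb, ← e]
  group

theorem psi_comm_z (g : G0) : L.psi g * z = z * L.psi g := by
  refine gen_induction (P := fun g => L.psi g * z = z * L.psi g) g (by simp) fun j g ih => ?_
  rw [map_mul, L.psi_T, mul_assoc, ih, ← mul_assoc, L.h_comm_z, mul_assoc]

/-- The elements of Sp6(2) acting trivially modulo the centre. -/
noncomputable def trivAct : Subgroup G0 where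
  carrier := {g | ∀ a < 512, L.psi g * L.x a * (L.psi g)⁻¹ = L.x a ∨ L.psi g * L.x a * (L.psi g)⁻¹ = L.x a * z}
  one_mem' := fun a _ => Or.inl (by simp)
  mul_mem' := fun {g k} hg hk a ha => by
    have hz : L.psi g * z * (L.psi g)⁻¹ = z := by rw [L.psi_comm_z, mul_inv_cancel_right]
    have hzz : z * z = 1 := L.z_sq
    rcases hk a ha with e | e <;> rcases hg a ha with e' | e'
    · refine Or.inl ?_
      calc L.psi (g * k) * L.x a * (L.psi (g * k))⁻¹
            = L.psi g * (L.psi k * L.x a * (L.psi k)⁻¹) * (L.psi g)⁻¹ := by rw [map_mul]; group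
        _ = L.x a := by rw [e, e']
    · refine Or.inr ?_
      calc L.psi (g * k) * L.x a * (L.psi (g * k))⁻¹
            = L.psi g * (L.psi k * L.x a * (L.psi k)⁻¹) * (L.psi g)⁻¹ := by rw [map_mul]; group
        _ = L.x a * z := by rw [e, e']
    · refine Or.inr ?_
      calc L.psi (g * k) * L.x a * (L.psi (g * k))⁻¹
            = L.psi g * (L.psi k * L.x a * (L.psi k)⁻¹) * (L.psi g)⁻¹ := by rw [map_mul]; group
        _ = L.psi g * L.x a * (L.psi g)⁻¹ * (L.psi g * z * (L.psi g)⁻¹) := by rw [e]; group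
        _ = L.x a * z := by rw [e', hz]
    · refine Or.inl ?_
      calc L.psi (g * k) * L.x a * (L.psi (g * k))⁻¹
            = L.psi g * (L.psi k * L.x a * (L.psi k)⁻¹) * (L.psi g)⁻¹ := by rw [map_mul]; group
        _ = L.psi g * L.x a * (L.psi g)⁻¹ * (L.psi g * z * (L.psi g)⁻¹) := by rw [e]; group
        _ = L.x a := by rw [e', hz, mul_assoc, hzz, mul_one]
  inv_mem' := fun {g} hg a ha => by
    have hz : (L.psi g)⁻¹ * z * L.psi g = z := by rw [mul_assoc, ← L.psi_comm_z, inv_mul_cancel_left]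
    have hzz : z * z = 1 := L.z_sq
    rcases hg a ha with e | e
    · refine Or.inl ?_
      rw [map_inv, inv_inv]
      calc (L.psi g)⁻¹ * L.x a * L.psi g = (L.psi g)⁻¹ * (L.psi g * L.x a * (L.psi g)⁻¹) * L.psi g := by rw [e]
        _ = L.x a := by group
    · refine Or.inr ?_
      rw [map_inv, inv_inv]
      have e2 : L.x a = L.psi g * L.x a * (L.psi g)⁻¹ * z := by rw [e, mul_assoc, hzz, mul_one]
      calc (L.psi g)⁻¹ * L.x a * L.psi g
            = (L.psi g)⁻¹ * (L.psi g * L.x a * (L.psi g)⁻¹ * z) * L.psi g := by rw [← e2]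
        _ = L.x a * ((L.psi g)⁻¹ * z * L.psi g) := by group
        _ = L.x a * z := by rw [hz]

theorem trivAct_eq_bot : L.trivAct = ⊥ := by
  haveI := isSimpleGroup_G0
  have hn : L.trivAct.Normal := ⟨fun n hn g a ha => by
    obtain ⟨b, hb, e⟩ := L.conj_x g⁻¹ a ha
    rw [map_inv, inv_inv] at e
    have hz : L.psi g * z * (L.psi g)⁻¹ = z := by rw [L.psi_comm_z, mul_inv_cancel_right]
    have eb : L.psi g * L.x b * (L.psi g)⁻¹ = L.x a := by rw [← e]; group
    have key : L.psi (g * n * g⁻¹) * L.x a * (L.psi (g * n * g⁻¹))⁻¹ =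
        L.psi g * (L.psi n * L.x b * (L.psi n)⁻¹) * (L.psi g)⁻¹ := by
      rw [← e]; simp only [map_mul, map_inv]; group
    rcases hn b hb with e' | e'
    · exact Or.inl (by rw [key, e', eb])
    · refine Or.inr (key.trans ?_)
      calc L.psi g * (L.psi n * L.x b * (L.psi n)⁻¹) * (L.psi g)⁻¹
            = L.psi g * L.x b * (L.psi g)⁻¹ * (L.psi g * z * (L.psi g)⁻¹) := by rw [e']; group
        _ = L.x a * z := by rw [eb, hz]⟩
  refine hn.eq_bot_or_eq_top.resolve_right fun htop => ?_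
  obtain ⟨v, hv, hmove⟩ := List.any_eq_true.1 check_move
  rw [List.mem_range] at hv
  simp only [Bool.and_eq_true, bne_iff_ne] at hmove
  have hT : CoTwoType.T 0 ∈ L.trivAct := by rw [htop]; exact Subgroup.mem_top _
  have hs := L.h_conj 0 v hv
  have hlt := CoTwoType.sig_lt 0 (by norm_num) v hv
  rcases hT v hv with e | e <;> rw [L.psi_T, hs] at e
  · exact hmove.1 (L.x_inj _ hlt _ hv e)
  · rw [L.x_mul_z hv, check_qm_z v hv] at e
    exact hmove.2 (L.x_inj _ hlt _ (check_qm_z v hv ▸ qm_lt hv (by norm_num)) e)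

/-- An element with the code `e`. -/
def Is (t : T) (e : ℕ) : Prop :=
  ∃ g : G0, t = L.x (fV e) * L.psi g ∧ ∀ S < 8, L.psi g * L.x (1 <<< S) * (L.psi g)⁻¹ = L.x (fM e S)

theorem bit_lt {S : ℕ} (hS : S < 8) : 1 <<< S < 512 := by interval_cases S <;> decide

theorem conj_prodBits {k : T} {f : ℕ → ℕ} (hf : ∀ S, f S < 512)
    (hk : ∀ S < 8, k * L.x (1 <<< S) * k⁻¹ = L.x (f S)) (v : ℕ) :
    ∀ n ≤ 8, prodBits (fun S => 1 <<< S) v n < 512 ∧
      k * L.x (prodBits (fun S => 1 <<< S) v n) * k⁻¹ = L.x (prodBits f v n)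
  | 0, _ => by simp [prodBits, L.x_zero]
  | n + 1, hn => by
    obtain ⟨hlt, ih⟩ := conj_prodBits hf hk v n (by omega)
    simp only [prodBits]
    cases v.testBit n
    · exact ⟨hlt, ih⟩
    · refine ⟨qm_lt hlt (bit_lt (by omega)), ?_⟩
      simp only [cond_true]
      rw [← L.x_mul _ hlt _ (bit_lt (by omega)), ← L.x_mul _ (prodBits_lt hf v n) _ (hf n), ← ih,
        ← hk n (by omega)]
      group

theorem conj_app {e : ℕ} {k : T} (hkz : k * z = z * k) (hk : ∀ S < 8, k * L.x (1 <<< S) * k⁻¹ = L.x (fM e S))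
    {v : ℕ} (hv : v < 512) : k * L.x v * k⁻¹ = L.x (appC e v) := by
  obtain ⟨hlt, h⟩ := L.conj_prodBits (fM_lt e) hk v 8 le_rfl
  rw [appC, ← L.x_mul _ (prodBits_lt (fM_lt e) v 8) _ (zPart_lt v), ← h]
  conv_lhs => rw [← check_id v hv, ← L.x_mul _ hlt _ (zPart_lt v)]
  rcases zPart_or v with e' | e' <;> rw [e']
  · rw [L.x_zero, mul_one, mul_one]
  · rw [L.x_z]
    calc k * (L.x (prodBits (fun S => 1 <<< S) v 8) * z) * k⁻¹
          = k * L.x (prodBits (fun S => 1 <<< S) v 8) * (z * k⁻¹) := by group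
      _ = k * L.x (prodBits (fun S => 1 <<< S) v 8) * k⁻¹ * (k * z * k⁻¹) := by group
      _ = k * L.x (prodBits (fun S => 1 <<< S) v 8) * k⁻¹ * z := by rw [hkz, mul_inv_cancel_right]

theorem Is.mul {t u : T} {e f : ℕ} (ht : L.Is t e) (hu : L.Is u f) : L.Is (t * u) (cmul e f) := by
  obtain ⟨g, rfl, hg⟩ := ht
  obtain ⟨k, rfl, hk⟩ := hu
  have happ := fun v hv => L.conj_app (v := v) (L.psi_comm_z g) hg hv
  refine ⟨g * k, ?_, fun S hS => ?_⟩
  · rw [cmul, fV_pack (qm_lt (fV_lt e) (appC_lt e _)), ← L.x_mul _ (fV_lt e) _ (appC_lt e _),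
      ← happ _ (fV_lt f), map_mul]
    group
  · have hp := fM_pack (qm_lt (fV_lt e) (appC_lt e (fV f))) (f := fun S => appC e (fM f S))
      (fun S => appC_lt e _) S hS
    rw [cmul, hp, ← happ _ (fM_lt f S), ← hk S hS, map_mul]
    group

theorem Is.vec {v : ℕ} (hv : v < 512) : L.Is (L.x v) (vecC v) := by
  refine ⟨1, by rw [vecC, fV_pack hv, map_one, mul_one], fun S hS => ?_⟩
  have hp := fM_pack (f := fun S => if S < 8 then 1 <<< S else 0) hv (fun S => by
    by_cases h : S < 8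
    · simp only [if_pos h]; exact bit_lt h
    · simp [if_neg h]) S hS
  simp only [if_pos hS] at hp
  rw [vecC, map_one, one_mul, inv_one, mul_one]
  exact congrArg L.x hp.symm

theorem Is.one : L.Is 1 cone := by
  have h := Is.vec L (v := 0) (by norm_num)
  rwa [L.x_zero] at h

theorem Is.zC : L.Is z (vecC 256) := by
  obtain ⟨g, h1, h2⟩ := Is.vec L (v := 256) (by norm_num)
  exact ⟨g, L.x_z.symm.trans h1, h2⟩

theorem Is.letter (j : Fin 7) : L.Is (L.h j) (letC j.val) := by
  have him : ∀ S, img j.val S < 512 := fun S => by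
    by_cases hS : S < 8
    · rw [← check_img j.val j.isLt S hS]; exact CoTwoType.sig_lt _ j.isLt _ (bit_lt hS)
    · have hl : (imgs.getD j.val []).length = 8 := by
        obtain ⟨j, hj⟩ := j
        interval_cases j <;> rfl
      rw [img, List.getD_eq_default _ _ (by rw [hl]; omega)]
      norm_num
  refine ⟨CoTwoType.T j, by rw [letC, fV_pack (by norm_num), L.x_zero, one_mul, L.psi_T], fun S hS => ?_⟩
  rw [letC, fM_pack (by norm_num) him S hS, L.psi_T, L.h_conj j _ (bit_lt hS), check_img j.val j.isLt S hS]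

theorem Is.word : ∀ {w : List (Fin 7)}, L.Is (w.map L.h).prod (wordE (w.map Fin.val))
  | [] => Is.one L
  | j :: w => by
    simp only [List.map_cons, List.prod_cons]
    exact Is.mul L (Is.letter L j) Is.word

/-- Equality is equality of the fields of the codes. -/
theorem eq_iff {t u : T} {e f : ℕ} (ht : L.Is t e) (hu : L.Is u f) :
    t = u ↔ fV e = fV f ∧ ∀ S < 8, fM e S = fM f S := by
  obtain ⟨g, rfl, hg⟩ := ht
  obtain ⟨k, rfl, hk⟩ := hu
  have hmem : ∀ m : G0, m ∈ L.trivAct → m = 1 := fun m hm => by rwa [L.trivAct_eq_bot, Subgroup.mem_bot] at hm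
  constructor
  · intro he
    have hgk : g = k := by
      have h1 : L.psi (g * k⁻¹) = (L.x (fV e))⁻¹ * L.x (fV f) := by
        rw [map_mul, map_inv, ← mul_inv_eq_iff_eq_mul.2 he.symm]; group
      refine mul_inv_eq_one.1 (hmem _ fun a ha => ?_)
      rw [h1]
      -- conjugation by a product of two vectors changes only the centre
      have key : ∀ p < 512, ∀ a < 512, L.x p * L.x a * (L.x p)⁻¹ = L.x a ∨
          L.x p * L.x a * (L.x p)⁻¹ = L.x a * z := by
        intro p hp a ha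
        rw [L.x_mul p hp a ha]
        rcases qm_comm_or hp ha with e1 | e1
        · left
          rw [e1, ← L.x_mul a ha p hp, mul_inv_cancel_right]
        · right
          rw [e1, ← L.x_mul_z (qm_lt ha hp), ← L.x_mul a ha p hp, mul_assoc (L.x a),
            L.x_comm_z hp, ← mul_assoc, mul_inv_cancel_right]
      obtain ⟨q, hq, hqinv⟩ : ∃ q < 512, (L.x (fV e))⁻¹ = L.x q := by
        obtain ⟨q, hq, e1⟩ := exists_inv (fV_lt e)
        exact ⟨q, hq, inv_eq_of_mul_eq_one_right (by rw [L.x_mul _ (fV_lt e) _ hq, e1, L.x_zero])⟩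
      rw [hqinv, L.x_mul q hq _ (fV_lt f)]
      exact key _ (qm_lt hq (fV_lt f)) a ha
    subst hgk
    exact ⟨L.x_inj _ (fV_lt e) _ (fV_lt f) (mul_right_cancel he),
      fun S hS => L.x_inj _ (fM_lt e S) _ (fM_lt f S) ((hg S hS).symm.trans (hk S hS))⟩
  · rintro ⟨h1, h2⟩
    have hgk : g = k := by
      refine mul_inv_eq_one.1 (hmem _ fun a ha => Or.inl ?_)
      have eg := L.conj_app (v := a) (L.psi_comm_z g) hg ha
      obtain ⟨b, hb, eb⟩ := L.conj_x k⁻¹ a ha
      rw [map_inv, inv_inv] at eb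
      have ek : L.psi g * L.x b * (L.psi g)⁻¹ = L.psi k * L.x b * (L.psi k)⁻¹ := by
        rw [L.conj_app (L.psi_comm_z g) hg hb, L.conj_app (e := e) (L.psi_comm_z k)
          (fun S hS => by rw [hk S hS, h2 S hS]) hb]
      calc L.psi (g * k⁻¹) * L.x a * (L.psi (g * k⁻¹))⁻¹
            = L.psi g * ((L.psi k)⁻¹ * L.x a * L.psi k) * (L.psi g)⁻¹ := by
              simp only [map_mul, map_inv]; group
        _ = L.psi k * ((L.psi k)⁻¹ * L.x a * L.psi k) * (L.psi k)⁻¹ := by rw [eb, ek]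
        _ = L.x a := by group
    rw [h1, hgk]

/-- Every element commuting with `z` is coded. -/
theorem exists_code {c : T} (hc : c * z = z * c) : ∃ g : G0, ∃ v < 512, c = L.x v * L.psi g := by
  have hinv : ∀ v < 512, ∃ q < 512, (L.x v)⁻¹ = L.x q := fun v hv => by
    obtain ⟨q, hq, e⟩ := exists_inv hv
    exact ⟨q, hq, inv_eq_of_mul_eq_one_right (by rw [L.x_mul _ hv _ hq, e, L.x_zero])⟩
  have hm := L.gen c hc
  clear hc
  induction hm using Subgroup.closure_induction with
  | mem y hy =>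
    rcases hy with ⟨j, rfl⟩ | ⟨a, ha, rfl⟩
    · exact ⟨CoTwoType.T j, 0, by norm_num, by rw [L.x_zero, one_mul, L.psi_T]⟩
    · exact ⟨1, a, ha, by rw [map_one, mul_one]⟩
  | one => exact ⟨1, 0, by norm_num, by rw [L.x_zero, map_one, mul_one]⟩
  | mul y w _ _ hy hw =>
    obtain ⟨g, v, hv, rfl⟩ := hy
    obtain ⟨k, u, hu, rfl⟩ := hw
    obtain ⟨b, hb, e⟩ := L.conj_x g u hu
    refine ⟨g * k, qm v b, qm_lt hv hb, ?_⟩
    rw [← L.x_mul v hv b hb, ← e, map_mul]
    group
  | inv y _ hy =>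
    obtain ⟨g, v, hv, rfl⟩ := hy
    obtain ⟨q, hq, e1⟩ := hinv v hv
    obtain ⟨b, hb, e⟩ := L.conj_x g⁻¹ q hq
    refine ⟨g⁻¹, b, hb, ?_⟩
    rw [← e, ← e1, map_inv]
    group

end Coded

end Cfsg.Agent.CoTwoClose
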