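/-
Kernel-friendly forms of the products of codes (owner: helper72).

* `qmF`, `appF`, `mulF` : equal to `qm`, `appC`, `cmul` on codes
-/
import Cfsg.Agent.Lib.CoTwoClose.Code

set_option autoImplicit false
set_option maxRecDepth 20000

namespace Cfsg.Agent.CoTwoClose

open CoTwoType (qm bB prodBits)

/-- The cocycle on the two halves that it reads. -/
def cocTab : ℕ := 0x6996969699666666a55a5a5a55aaaaaac33c3c3c33cccccc0ff0f0f0ff000000

/-- The central part of a vector, as a table. -/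
def zTab : ℕ := 0x96696969669999995aa5a5a5aa5555553cc3c3c3cc333333f00f0f0f00ffffff6996969699666666a55a5a5a55aaaaaac33c3c3c33cccccc0ff0f0f0ff000000

/-- The fast product of vectors. -/
def qmF (a b : ℕ) : ℕ :=
  Nat.xor (Nat.xor a b) (Nat.mul 256 (Nat.land 1 (Nat.shiftRight cocTab
    (Nat.add (Nat.mul 16 (Nat.land a 15)) (Nat.land (Nat.shiftRight b 4) 15)))))

/-- One step of the fast action. -/
def stepF (e v S acc : ℕ) : ℕ :=
  qmF acc (Nat.mul (Nat.land 1 (Nat.shiftRight v S)) (Nat.land (Nat.shiftRight e (Nat.mul 9 (Nat.add S 1))) 511))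

/-- The fast action. -/
def appF (e v : ℕ) : ℕ :=
  qmF (stepF e v 7 (stepF e v 6 (stepF e v 5 (stepF e v 4 (stepF e v 3 (stepF e v 2 (stepF e v 1
    (stepF e v 0 0)))))))) (Nat.mul 256 (Nat.land 1 (Nat.shiftRight zTab v)))

/-- A shifted image. -/
def slotF (e f k : ℕ) : ℕ :=
  Nat.shiftLeft (appF e (Nat.land (Nat.shiftRight f (Nat.mul 9 k)) 511)) (Nat.mul 9 k)

/-- The fast product of codes. -/
def mulF (e f : ℕ) : ℕ :=
  Nat.add (qmF (Nat.land e 511) (appF e (Nat.land f 511))) (Nat.add (slotF e f 1) (Nat.add (slotF e f 2)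
    (Nat.add (slotF e f 3) (Nat.add (slotF e f 4) (Nat.add (slotF e f 5) (Nat.add (slotF e f 6)
      (Nat.add (slotF e f 7) (slotF e f 8))))))))

theorem check_coc : ∀ p < 16, ∀ q < 16,
    Nat.land 1 (Nat.shiftRight cocTab (Nat.add (Nat.mul 16 p) q)) = (bif bB p (q * 16) then 1 else 0) := by
  decide +kernel

theorem check_zTab : ∀ v < 512, 256 * Nat.land 1 (Nat.shiftRight zTab v) = zPart v := by decide +kernel

theorem bB_halves (a b : ℕ) : bB (a % 16) (b / 16 % 16 * 16) = bB a b := by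
  have h1 : ∀ i < 4, (a % 16).testBit i = a.testBit i := fun i hi => by
    rw [show (16 : ℕ) = 2 ^ 4 from rfl, Nat.testBit_mod_two_pow, decide_eq_true hi, Bool.true_and]
  have h2 : ∀ i, 4 ≤ i → i < 8 → (b / 16 % 16 * 16).testBit i = b.testBit i := fun i hi hi' => by
    rw [show (16 : ℕ) = 2 ^ 4 from rfl, Nat.testBit_mul_two_pow, Nat.testBit_mod_two_pow,
      Nat.testBit_div_two_pow]
    simp [hi, show i - 4 < 4 by omega, show i - 4 + 4 = i by omega]
  simp only [bB, h1 0 (by norm_num), h1 1 (by norm_num), h1 2 (by norm_num), h1 3 (by norm_num),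
    h2 4 (by norm_num) (by norm_num), h2 5 (by norm_num) (by norm_num), h2 6 (by norm_num) (by norm_num),
    h2 7 (by norm_num) (by norm_num)]

theorem qmF_eq (a b : ℕ) : qmF a b = qm a b := by
  have e1 : Nat.land a 15 = a % 16 := Nat.and_two_pow_sub_one_eq_mod a 4
  have e2 : Nat.land (Nat.shiftRight b 4) 15 = b / 16 % 16 := by
    rw [show Nat.shiftRight b 4 = b / 16 from Nat.shiftRight_eq_div_pow b 4]
    exact Nat.and_two_pow_sub_one_eq_mod _ 4
  rw [qmF, e1, e2, check_coc _ (Nat.mod_lt _ (by norm_num)) _ (Nat.mod_lt _ (by norm_num)), bB_halves, qm]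
  cases bB a b <;> rfl

theorem stepF_eq (e v S : ℕ) (acc : ℕ) :
    stepF e v S acc = bif v.testBit S then qm acc (fM e S) else qm acc 0 := by
  have h : Nat.land 1 (Nat.shiftRight v S) = bif v.testBit S then 1 else 0 := by
    show 1 &&& (v >>> S) = _
    rw [Nat.one_and_eq_mod_two, Nat.testBit, Nat.one_and_eq_mod_two]
    rcases Nat.mod_two_eq_zero_or_one (v >>> S) with e | e <;> simp [e]
  rw [stepF, qmF_eq, h]
  cases v.testBit S
  · simp
  · simp only [cond_true, Nat.mul_eq, one_mul]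
    rfl

theorem qm_zero_right (a : ℕ) : qm a 0 = a := by simp [qm, bB]

theorem appF_eq (e : ℕ) {v : ℕ} (hv : v < 512) : appF e v = appC e v := by
  rw [appF, qmF_eq, appC]
  congr 1
  · simp only [stepF_eq, qm_zero_right, prodBits]
  · exact check_zTab v hv

theorem slotF_eq (e f k : ℕ) : slotF e f (k + 1) = appC e (fM f k) * 512 ^ (k + 1) := by
  rw [slotF, show Nat.land (Nat.shiftRight f (Nat.mul 9 (k + 1))) 511 = fM f k from rfl, appF_eq e (fM_lt f k),
    show Nat.shiftLeft (appC e (fM f k)) (Nat.mul 9 (k + 1)) = appC e (fM f k) <<< (9 * (k + 1)) from rfl,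
    Nat.shiftLeft_eq, pow_mul]
  norm_num

theorem mulF_eq (e f : ℕ) : mulF e f = cmul e f := by
  rw [mulF, qmF_eq, appF_eq e (v := Nat.land f 511) (fV_lt f), slotF_eq e f 0, slotF_eq e f 1, slotF_eq e f 2,
    slotF_eq e f 3, slotF_eq e f 4, slotF_eq e f 5, slotF_eq e f 6, slotF_eq e f 7, cmul, pack]
  show qm (fV e) (appC e (fV f)) + _ = _
  simp only [Nat.add_eq]
  ring

end Cfsg.Agent.CoTwoClose
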