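/-
Eight involutory generators of the coded centraliser and conjugation by them (owner: helper72).

* `conjG` : conjugation of a code by a generator
* `Coded.gen_induction8` : a property preserved by the eight conjugations is preserved by the whole centraliser
-/
import Cfsg.Agent.Lib.CoTwoClose.Fast

set_option autoImplicit false
set_option maxRecDepth 20000

namespace Cfsg.Agent.CoTwoClose

open CoTwoType (qm sig)
open Multiplier.Sp6 (G0)

/-- A code with a new vector. -/
def vconjF (p q e : ℕ) : ℕ :=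
  Nat.add (qmF (qmF p (Nat.land e 511)) (appF e q)) (Nat.shiftLeft (Nat.shiftRight e 9) 9)

/-- The code of a generator. -/
def genC (i : ℕ) : ℕ := bif Nat.blt i 7 then letC i else vecC 1

/-- Conjugation of a code by a generator. -/
def conjG (i e : ℕ) : ℕ := bif Nat.blt i 7 then mulF (mulF (letC i) e) (letC i) else vconjF 1 1 e

/-- Paths reaching each basis vector from the first, up to the centre. -/
def bitPaths : List (List ℕ) :=
  [[], [0], [1], [5], [1, 0], [5, 0], [3, 1], [5, 1], [5, 1, 0]]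

/-- The vectors reached from the first by a list of letters. -/
def walk (ps : List ℕ) : ℕ := ps.foldr (fun j v => sig j v) 1

/-- The vectors generated by those reached. -/
def reached : List ℕ :=
  (bitPaths.map walk).foldl (fun acc v => (acc ++ acc.map fun a => qm a v).dedup) [0]

theorem check_reached : ((List.range 512).all fun v => reached.contains v) = true := by decide +kernel

theorem check_bitPaths : (bitPaths.all fun ps => ps.all fun j => decide (j < 7)) = true := by decide +kernel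

namespace Coded

variable {T : Type*} [Group T] {z : T} (L : Coded z)

theorem x_sq_one : L.x 1 * L.x 1 = 1 := by
  rw [L.x_mul 1 (by norm_num) 1 (by norm_num), show qm 1 1 = 0 by rfl, L.x_zero]

/-- The generators. -/
noncomputable def gen8 (i : ℕ) : T := if h : i < 7 then L.h ⟨i, h⟩ else L.x 1

theorem h_sq (j : Fin 7) : L.h j * L.h j = 1 := by
  simpa [CoTwoType.cexp] using L.rel j j

theorem gen8_sq (i : ℕ) : L.gen8 i * L.gen8 i = 1 := by
  rw [gen8]; split
  · exact L.h_sq _
  · exact L.x_sq_one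

theorem gen8_inv (i : ℕ) : (L.gen8 i)⁻¹ = L.gen8 i := inv_eq_of_mul_eq_one_right (L.gen8_sq i)

theorem gen8_comm (i : ℕ) : L.gen8 i * z = z * L.gen8 i := by
  rw [gen8]; split
  · exact L.h_comm_z _
  · exact L.x_comm_z (by norm_num)

theorem Is.gen8 {i : ℕ} : L.Is (L.gen8 i) (genC i) := by
  rw [Coded.gen8, genC]
  by_cases h : i < 7
  · rw [dif_pos h, show Nat.blt i 7 = true from Nat.ble_eq_true_of_le h, cond_true]
    exact Is.letter L ⟨i, h⟩
  · rw [dif_neg h, show Nat.blt i 7 = false from Bool.eq_false_iff.2 fun e => h (Nat.le_of_ble_eq_true e), cond_false]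
    exact Is.vec L (by norm_num)

theorem fV_setV {w : ℕ} (e : ℕ) (hw : w < 512) : fV (w + (e >>> 9) <<< 9) = w := by
  rw [fV, show (511 : ℕ) = 2 ^ 9 - 1 from rfl, Nat.and_two_pow_sub_one_eq_mod, Nat.shiftLeft_eq,
    Nat.shiftRight_eq_div_pow]
  omega

theorem fM_setV {w : ℕ} (e S : ℕ) (hw : w < 512) : fM (w + (e >>> 9) <<< 9) S = fM e S := by
  have h : (w + (e >>> 9) <<< 9) >>> 9 = e >>> 9 := by
    rw [Nat.shiftLeft_eq, Nat.shiftRight_eq_div_pow, Nat.shiftRight_eq_div_pow]
    omega
  rw [fM, fM, show 9 * (S + 1) = 9 + 9 * S by ring, Nat.shiftRight_add, Nat.shiftRight_add, h]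

theorem Is.vconj {t : T} {e p q : ℕ} (ht : L.Is t e) (hp : p < 512) (hq : q < 512) :
    L.Is (L.x p * t * L.x q) (vconjF p q e) := by
  obtain ⟨g, rfl, hg⟩ := ht
  have hlt : qm (qm p (fV e)) (appC e q) < 512 := qm_lt (qm_lt hp (fV_lt e)) (appC_lt e q)
  have he : vconjF p q e = qm (qm p (fV e)) (appC e q) + (e >>> 9) <<< 9 := by
    rw [vconjF, qmF_eq, qmF_eq, appF_eq e hq]
    rfl
  rw [he]
  refine ⟨g, ?_, fun S hS => by rw [fM_setV e S hlt]; exact hg S hS⟩
  rw [fV_setV e hlt, ← L.x_mul _ (qm_lt hp (fV_lt e)) _ (appC_lt e q), ← L.x_mul p hp _ (fV_lt e),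
    ← L.conj_app (L.psi_comm_z g) hg hq]
  group

theorem Is.conjG {t : T} {e : ℕ} (i : ℕ) (ht : L.Is t e) :
    L.Is (L.gen8 i * t * L.gen8 i) (CoTwoClose.conjG i e) := by
  rw [CoTwoClose.conjG]
  by_cases h : i < 7
  · rw [show Nat.blt i 7 = true from Nat.ble_eq_true_of_le h, cond_true, Coded.gen8, dif_pos h, mulF_eq, mulF_eq]
    exact Is.mul L (Is.mul L (Is.letter L ⟨i, h⟩) ht) (Is.letter L ⟨i, h⟩)
  · rw [show Nat.blt i 7 = false from Bool.eq_false_iff.2 fun e => h (Nat.le_of_ble_eq_true e), cond_false, Coded.gen8,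
      dif_neg h]
    exact Is.vconj L ht (by norm_num) (by norm_num)

/-- Elements with the same code are equal. -/
theorem Is.unique {t u : T} {e : ℕ} (ht : L.Is t e) (hu : L.Is u e) : t = u :=
  (L.eq_iff ht hu).2 ⟨rfl, fun _ _ => rfl⟩

theorem is_comm {t : T} {e : ℕ} (ht : L.Is t e) : t * z = z * t := by
  obtain ⟨g, rfl, -⟩ := ht
  rw [mul_assoc, L.psi_comm_z g, ← mul_assoc, L.x_comm_z (fV_lt e), mul_assoc]

theorem exists_is_psi (g : G0) : ∃ e, L.Is (L.psi g) e := by
  refine gen_induction (P := fun g => ∃ e, L.Is (L.psi g) e) g ⟨cone, by rw [map_one]; exact Is.one L⟩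
    fun j g ⟨e, he⟩ => ⟨cmul (letC j.val) e, ?_⟩
  rw [map_mul, L.psi_T]
  exact Is.mul L (Is.letter L j) he

theorem exists_is {c : T} (hc : c * z = z * c) : ∃ e, L.Is c e := by
  obtain ⟨g, v, hv, rfl⟩ := L.exists_code hc
  obtain ⟨e, he⟩ := L.exists_is_psi g
  exact ⟨_, Is.mul L (Is.vec L hv) he⟩

/-- What is preserved by the eight conjugations is preserved by the whole centraliser. -/
theorem gen_induction8 {P : T → Prop} (hP : ∀ i < 8, ∀ t, P t → P (L.gen8 i * t * L.gen8 i)) {d : T}
    (hd : d * z = z * d) {t : T} (ht : P t) : P (d * t * d⁻¹) := by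
  let K : Submonoid T :=
    { carrier := {d | ∀ t, P t → P (d * t * d⁻¹)}
      one_mem' := fun t ht => by simpa using ht
      mul_mem' := fun {a b} ha hb t ht => by
        rw [show a * b * t * (a * b)⁻¹ = a * (b * t * b⁻¹) * a⁻¹ by group]
        exact ha _ (hb t ht) }
  have hg : ∀ i < 8, L.gen8 i ∈ K := fun i hi t ht => by rw [L.gen8_inv]; exact hP i hi t ht
  have hh : ∀ j : Fin 7, L.h j ∈ K := fun j => by
    have := hg j.val (by omega)
    rwa [Coded.gen8, dif_pos j.isLt] at this
  have hx1 : L.x 1 ∈ K := by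
    have := hg 7 (by norm_num)
    rwa [Coded.gen8, dif_neg (by norm_num)] at this
  -- every vector
  have hwalk : ∀ ps : List ℕ, (∀ j ∈ ps, j < 7) → walk ps < 512 ∧ L.x (walk ps) ∈ K := by
    intro ps hps
    induction ps with
    | nil => exact ⟨show (1 : ℕ) < 512 by norm_num, hx1⟩
    | cons j ps ih =>
      obtain ⟨hlt, hk⟩ := ih fun i hi => hps i (List.mem_cons_of_mem _ hi)
      have hj := hps j List.mem_cons_self
      refine ⟨CoTwoType.sig_lt j hj _ hlt, ?_⟩
      show L.x (sig (⟨j, hj⟩ : Fin 7).val (walk ps)) ∈ K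
      rw [← L.h_conj ⟨j, hj⟩ _ hlt, inv_eq_of_mul_eq_one_right (L.h_sq _)]
      exact K.mul_mem (K.mul_mem (hh _) hk) (hh _)
  have hfold : ∀ (vs : List ℕ) (acc : List ℕ), (∀ v ∈ vs, v < 512 ∧ L.x v ∈ K) →
      (∀ a ∈ acc, a < 512 ∧ L.x a ∈ K) →
      ∀ a ∈ vs.foldl (fun acc v => (acc ++ acc.map fun a => qm a v).dedup) acc, a < 512 ∧ L.x a ∈ K := by
    intro vs
    induction vs with
    | nil => exact fun acc _ h => h
    | cons v vs ih =>
      intro acc hvs hacc
      refine ih _ (fun u hu => hvs u (List.mem_cons_of_mem _ hu)) fun a ha => ?_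
      rw [List.mem_dedup, List.mem_append, List.mem_map] at ha
      obtain ⟨hv1, hv2⟩ := hvs v List.mem_cons_self
      rcases ha with ha | ⟨a, ha, rfl⟩
      · exact hacc a ha
      · obtain ⟨h1, h2⟩ := hacc a ha
        exact ⟨qm_lt h1 hv1, L.x_mul a h1 v hv1 ▸ K.mul_mem h2 hv2⟩
  have hx : ∀ v < 512, L.x v ∈ K := by
    intro v hv
    have hc := check_reached
    simp only [List.all_eq_true, List.mem_range, List.contains_iff_mem] at hc
    refine (hfold (bitPaths.map walk) [0] (fun u hu => ?_) (fun a ha => ?_) v (hc v hv)).2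
    · obtain ⟨ps, hps, rfl⟩ := List.mem_map.1 hu
      have hb := check_bitPaths
      simp only [List.all_eq_true, decide_eq_true_eq] at hb
      exact hwalk ps (hb ps hps)
    · rw [List.mem_singleton] at ha
      subst ha
      exact ⟨by norm_num, L.x_zero ▸ K.one_mem⟩
  obtain ⟨g, v, hv, rfl⟩ := L.exists_code hd
  have hg' : L.psi g ∈ K := gen_induction (P := fun g => L.psi g ∈ K) g (by rw [map_one]; exact K.one_mem)
    fun j g ih => by rw [map_mul, L.psi_T]; exact K.mul_mem (hh j) ih
  exact K.mul_mem (hx v hv) hg' t ht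

end Coded

end Cfsg.Agent.CoTwoClose
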