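/-
The table of coded involutions and the ten representatives (owner: helper72).

* `reps` : the representatives as a vector and a word
* `codeAt`, `clsAt` : code and class of an entry
* `Coded.entry_conj` : an element with the code of an entry is conjugate to its representative under `z`'s centraliser
-/
import Cfsg.Agent.Lib.CoTwoClose.Gens
import Cfsg.Agent.Lib.CoTwoClose.ForestData

set_option autoImplicit false
set_option maxRecDepth 20000
set_option maxHeartbeats 1000000

namespace Cfsg.Agent.CoTwoClose

open CoTwoType (qm)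

/-- The representatives of the ten classes of involutions. -/
def reps : List (ℕ × List (Fin 7)) :=
  [(256, []), (2, []), (0, [0]), (256, [0]), (0, [0, 1]), (102, [0, 1]), (0, [1, 4, 6]), (1, [1, 4, 6]),
    (4, [1, 4, 6]), (0, [0, 1, 4])]

/-- The number of entries. -/
def nEnt : ℕ := 8136

/-- An entry. -/
def entryAt (i : ℕ) : ℕ := (ClassData.forest.getD (Nat.div i 128) []).getD (Nat.mod i 128) 0

/-- The code of an entry. -/
def codeAt (i : ℕ) : ℕ := Nat.land (entryAt i) 0x1ffffffffffffffffffff

/-- The generator joining an entry to its parent. -/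
def genAt (i : ℕ) : ℕ := Nat.land (Nat.shiftRight (entryAt i) 81) 15

/-- The class of an entry. -/
def clsAt (i : ℕ) : ℕ := Nat.land (Nat.shiftRight (entryAt i) 85) 15

/-- The parent of an entry. -/
def parAt (i : ℕ) : ℕ := Nat.shiftRight (entryAt i) 89

/-- The code of a pair. -/
def pairC (a : ℕ × List (Fin 7)) : ℕ := cmul (vecC a.1) (wordE (a.2.map Fin.val))

/-- The code of a representative. -/
def repC (k : ℕ) : ℕ := pairC (reps.getD k (0, []))

/-- The certificate of an entry. -/
def okAt (i : ℕ) : Bool :=
  Nat.blt i 10 || Nat.ble nEnt i || (Nat.blt (parAt i) i && Nat.blt (genAt i) 8 &&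
    Nat.beq (conjG (genAt i) (codeAt (parAt i))) (codeAt i) && Nat.beq (clsAt i) (clsAt (parAt i)))

theorem check_reps : ∀ k < 10, repC k = codeAt k ∧ clsAt k = k ∧ (reps.getD k (0, [])).1 < 512 := by decide +kernel

theorem check_entry0 : ((List.range' 0 1024).all okAt) = true := by decide +kernel
theorem check_entry1 : ((List.range' 1024 1024).all okAt) = true := by decide +kernel
theorem check_entry2 : ((List.range' 2048 1024).all okAt) = true := by decide +kernel
theorem check_entry3 : ((List.range' 3072 1024).all okAt) = true := by decide +kernel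
theorem check_entry4 : ((List.range' 4096 1024).all okAt) = true := by decide +kernel
theorem check_entry5 : ((List.range' 5120 1024).all okAt) = true := by decide +kernel
theorem check_entry6 : ((List.range' 6144 1024).all okAt) = true := by decide +kernel
theorem check_entry7 : ((List.range' 7168 1024).all okAt) = true := by decide +kernel

theorem okAt_all {i : ℕ} (h10 : ¬ i < 10) (hi : i < nEnt) :
    parAt i < i ∧ genAt i < 8 ∧ conjG (genAt i) (codeAt (parAt i)) = codeAt i ∧ clsAt i = clsAt (parAt i) := by
  have key : okAt i = true := by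
    have hi' : i < 8136 := hi
    have h := fun {a : ℕ} (h : ((List.range' a 1024).all okAt) = true) (h1 : a ≤ i) (h2 : i < a + 1024) =>
      List.all_eq_true.1 h i (List.mem_range'_1.2 ⟨h1, h2⟩)
    rcases lt_or_ge i 1024 with q | q
    · exact h check_entry0 (Nat.zero_le i) (by omega)
    rcases lt_or_ge i 2048 with q | q
    · exact h check_entry1 (by omega) (by omega)
    rcases lt_or_ge i 3072 with q | q
    · exact h check_entry2 (by omega) (by omega)
    rcases lt_or_ge i 4096 with q | q
    · exact h check_entry3 (by omega) (by omega)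
    rcases lt_or_ge i 5120 with q | q
    · exact h check_entry4 (by omega) (by omega)
    rcases lt_or_ge i 6144 with q | q
    · exact h check_entry5 (by omega) (by omega)
    rcases lt_or_ge i 7168 with q | q
    · exact h check_entry6 (by omega) (by omega)
    exact h check_entry7 (by omega) (by omega)
  simp only [okAt, Bool.or_eq_true, Bool.and_eq_true] at key
  rcases key with (k | k) | ⟨⟨⟨k1, k2⟩, k3⟩, k4⟩
  · exact absurd (Nat.le_of_ble_eq_true k) (by omega)
  · exact absurd (Nat.le_of_ble_eq_true k) (by omega)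
  · exact ⟨Nat.le_of_ble_eq_true k1, Nat.le_of_ble_eq_true k2, Nat.eq_of_beq_eq_true k3,
      Nat.eq_of_beq_eq_true k4⟩

namespace Coded

variable {T : Type*} [Group T] {z : T} (L : Coded z)

/-- The element of a pair. -/
def el (a : ℕ × List (Fin 7)) : T := L.x a.1 * (a.2.map L.h).prod

/-- The representatives. -/
def rep (k : ℕ) : T := L.el (reps.getD k (0, []))

theorem Is.el {a : ℕ × List (Fin 7)} (ha : a.1 < 512) : L.Is (L.el a) (pairC a) :=
  Is.mul L (Is.vec L ha) (Is.word L)

theorem Is.rep {k : ℕ} (hk : k < 10) : L.Is (L.rep k) (codeAt k) := by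
  obtain ⟨h1, -, h3⟩ := check_reps k hk
  rw [← h1]
  exact Is.el L h3

theorem rep_zero : L.rep 0 = z := by
  show L.x 256 * (([] : List (Fin 7)).map L.h).prod = z
  rw [List.map_nil, List.prod_nil, mul_one, L.x_z]

/-- An element with the code of an entry is conjugate to the representative of its class. -/
theorem entry_conj : ∀ {i : ℕ}, i < nEnt →
    clsAt i < 10 ∧ ∃ d, d * z = z * d ∧ L.Is (d * L.rep (clsAt i) * d⁻¹) (codeAt i) := by
  intro i
  induction i using Nat.strong_induction_on with
  | _ i ih =>
    intro hi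
    by_cases h10 : i < 10
    · obtain ⟨-, h2, -⟩ := check_reps i h10
      exact ⟨h2.symm ▸ h10, 1, by simp, by simpa [h2] using Is.rep L h10⟩
    · obtain ⟨h1, -, h3, h4⟩ := okAt_all h10 hi
      obtain ⟨hlt, d, hd, he⟩ := ih _ h1 (h1.trans hi)
      refine ⟨h4 ▸ hlt, L.gen8 (genAt i) * d, ?_, ?_⟩
      · rw [mul_assoc, hd, ← mul_assoc, L.gen8_comm, mul_assoc]
      · rw [h4, ← h3, show L.gen8 (genAt i) * d * L.rep (clsAt (parAt i)) * (L.gen8 (genAt i) * d)⁻¹ =
          L.gen8 (genAt i) * (d * L.rep (clsAt (parAt i)) * d⁻¹) * (L.gen8 (genAt i))⁻¹ by group, L.gen8_inv]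
        exact Is.conjG L _ he

theorem exists_isConj_rep {i : ℕ} (hi : i < nEnt) {t : T} (ht : L.Is t (codeAt i)) :
    clsAt i < 10 ∧ ∃ d, d * z = z * d ∧ d * L.rep (clsAt i) * d⁻¹ = t := by
  obtain ⟨h, d, hd, he⟩ := L.entry_conj hi
  exact ⟨h, d, hd, Is.unique L he ht⟩

theorem isConj_rep {i : ℕ} (hi : i < nEnt) {t : T} (ht : L.Is t (codeAt i)) : IsConj (L.rep (clsAt i)) t := by
  obtain ⟨-, d, -, hd⟩ := L.exists_isConj_rep hi ht
  exact isConj_iff.2 ⟨d, hd⟩

end Coded

end Cfsg.Agent.CoTwoClose
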