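/-
The three long classes are closed in the table, and their entries sorted by code (owner: helper72).

* `Coded.eltI` : the element of an entry
* `Coded.mem_lists` : conjugates of the representatives 0, 2, 3, 8 stay among the first 3283 entries
* `check_sorted`, `check_covered` : the list `zList` runs once through the classes 0, 2, 8
-/
import Cfsg.Agent.Lib.CoTwoClose.ForestCheck
import Cfsg.Agent.Lib.CoTwoClose.NextData
import Cfsg.Agent.Lib.CoTwoClose.ZListData

set_option autoImplicit false
set_option maxRecDepth 20000
set_option maxHeartbeats 1000000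

namespace Cfsg.Agent.CoTwoClose

/-- The number of entries of the long lists and the representatives. -/
def nList : ℕ := 3283

/-- The class is one of the long lists or the central involution. -/
def isList (k : ℕ) : Bool := Nat.beq k 0 || Nat.beq k 2 || Nat.beq k 3 || Nat.beq k 8

/-- The class goes to the central involution. -/
def isZ (k : ℕ) : Bool := Nat.beq k 0 || Nat.beq k 2 || Nat.beq k 8

/-- The image of an entry under a generator. -/
def nextAt (i g : ℕ) : ℕ :=
  Nat.land (Nat.shiftRight ((ClassData.next.getD (Nat.div i 128) []).getD (Nat.mod i 128) 0) (Nat.mul 12 g)) 4095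

/-- The certificate of closure at an entry. -/
def okNext (i : ℕ) : Bool :=
  Nat.ble nList i || !isList (clsAt i) || (List.range 8).all fun g =>
    Nat.blt (nextAt i g) nList && Nat.beq (clsAt (nextAt i g)) (clsAt i) &&
      Nat.beq (conjG g (codeAt i)) (codeAt (nextAt i g))

theorem check_next0 : ((List.range' 0 420).all okNext) = true := by decide +kernel
theorem check_next1 : ((List.range' 420 420).all okNext) = true := by decide +kernel
theorem check_next2 : ((List.range' 840 420).all okNext) = true := by decide +kernel
theorem check_next3 : ((List.range' 1260 420).all okNext) = true := by decide +kernel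
theorem check_next4 : ((List.range' 1680 420).all okNext) = true := by decide +kernel
theorem check_next5 : ((List.range' 2100 420).all okNext) = true := by decide +kernel
theorem check_next6 : ((List.range' 2520 420).all okNext) = true := by decide +kernel
theorem check_next7 : ((List.range' 2940 420).all okNext) = true := by decide +kernel

theorem okNext_all {i : ℕ} (hi : i < nList) (hl : isList (clsAt i) = true) {g : ℕ} (hg : g < 8) :
    nextAt i g < nList ∧ clsAt (nextAt i g) = clsAt i ∧ conjG g (codeAt i) = codeAt (nextAt i g) := by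
  have hi' : i < 3283 := hi
  have key : okNext i = true := by
    have h := fun {a : ℕ} (h : ((List.range' a 420).all okNext) = true) (h1 : a ≤ i) (h2 : i < a + 420) =>
      List.all_eq_true.1 h i (List.mem_range'_1.2 ⟨h1, h2⟩)
    rcases lt_or_ge i 420 with q | q
    · exact h check_next0 (Nat.zero_le i) (by omega)
    rcases lt_or_ge i 840 with q | q
    · exact h check_next1 (by omega) (by omega)
    rcases lt_or_ge i 1260 with q | q
    · exact h check_next2 (by omega) (by omega)
    rcases lt_or_ge i 1680 with q | q
    · exact h check_next3 (by omega) (by omega)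
    rcases lt_or_ge i 2100 with q | q
    · exact h check_next4 (by omega) (by omega)
    rcases lt_or_ge i 2520 with q | q
    · exact h check_next5 (by omega) (by omega)
    rcases lt_or_ge i 2940 with q | q
    · exact h check_next6 (by omega) (by omega)
    exact h check_next7 (by omega) (by omega)
  simp only [okNext, Bool.or_eq_true, Bool.and_eq_true, List.all_eq_true, List.mem_range, hl, Bool.not_true,
    Bool.false_eq_true, or_false] at key
  rcases key with k | k
  · exact absurd (Nat.le_of_ble_eq_true k) (Nat.not_le.2 hi)
  · obtain ⟨⟨k1, k2⟩, k3⟩ := k g hg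
    exact ⟨Nat.le_of_ble_eq_true k1, Nat.eq_of_beq_eq_true k2, Nat.eq_of_beq_eq_true k3⟩

/-- The entries of the classes 0, 2, 8 by increasing code. -/
def zList : List ℕ := ClassData.zSort.flatten

/-- The codes increase along a list. -/
def sortedC : ℕ → List ℕ → Bool
  | _, [] => true
  | lo, i :: is => Nat.blt lo (codeAt i) && sortedC (codeAt i) is

/-- The entries present in a list, as one number. -/
def maskOf (l : List ℕ) : ℕ := l.foldl (fun m i => Nat.lor m (Nat.shiftLeft 1 i)) 0

theorem check_sorted : sortedC 0 zList = true := by decide +kernel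

theorem check_zList : (zList.all fun i => Nat.blt i nList && isZ (clsAt i)) = true := by decide +kernel

theorem check_covered : ((List.range nList).all fun i =>
    !isZ (clsAt i) || Nat.beq (Nat.land (Nat.shiftRight (maskOf zList) i) 1) 1) = true := by decide +kernel

theorem mem_of_mask : ∀ {l : List ℕ} {m i : ℕ}, (l.foldl (fun m i => Nat.lor m (Nat.shiftLeft 1 i)) m).testBit i →
    m.testBit i ∨ i ∈ l
  | [], _, _, h => Or.inl h
  | j :: l, m, i, h => by
    rcases mem_of_mask (l := l) h with h | h
    · replace h : (m ||| 1 <<< j).testBit i = true := h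
      rw [Nat.testBit_lor, Bool.or_eq_true] at h
      rcases h with h | h
      · exact Or.inl h
      · refine Or.inr (List.mem_cons.2 (Or.inl ?_))
        rw [Nat.one_shiftLeft, Nat.testBit_two_pow, decide_eq_true_eq] at h
        exact h.symm
    · exact Or.inr (List.mem_cons_of_mem _ h)

theorem mem_zList {i : ℕ} (hi : i < nList) (h : isZ (clsAt i) = true) : i ∈ zList := by
  have h' := List.all_eq_true.1 check_covered i (List.mem_range.2 hi)
  rw [h, Bool.not_true, Bool.false_or] at h'
  have hb : (maskOf zList).testBit i = true := by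
    have e : ((maskOf zList) >>> i) &&& 1 = 1 := Nat.eq_of_beq_eq_true h'
    rw [Nat.and_one_is_mod] at e
    rw [Nat.testBit, Nat.one_and_eq_mod_two, e]
    rfl
  rcases mem_of_mask hb with h | h
  · rw [Nat.zero_testBit] at h; exact absurd h Bool.false_ne_true
  · exact h

theorem sortedC_gt : ∀ {l : List ℕ} {lo : ℕ}, sortedC lo l = true → ∀ i ∈ l, lo < codeAt i
  | [], _, _, i, hi => absurd hi List.not_mem_nil
  | j :: l, lo, h, i, hi => by
    simp only [sortedC, Bool.and_eq_true] at h
    have h1 : lo < codeAt j := Nat.le_of_ble_eq_true h.1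
    rcases List.mem_cons.1 hi with rfl | hi
    · exact h1
    · exact h1.trans (sortedC_gt h.2 i hi)

theorem sortedC_pairwise : ∀ {l : List ℕ} {lo : ℕ}, sortedC lo l = true →
    l.Pairwise fun i j => codeAt i < codeAt j
  | [], _, _ => List.Pairwise.nil
  | j :: l, lo, h => by
    simp only [sortedC, Bool.and_eq_true] at h
    exact List.pairwise_cons.2 ⟨sortedC_gt h.2, sortedC_pairwise h.2⟩

theorem codeAt_lt (i : ℕ) : codeAt i < 2 ^ 81 :=
  Nat.lt_succ_of_le Nat.and_le_right

/-- The fields determine a code below `2 ^ 81`. -/
theorem code_ext {e f : ℕ} (he : e < 2 ^ 81) (hf : f < 2 ^ 81) (hV : fV e = fV f)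
    (hM : ∀ S < 8, fM e S = fM f S) : e = f := by
  have key : ∀ {e : ℕ}, e < 2 ^ 81 → ∀ i,
      e.testBit i = if i < 9 then (fV e).testBit i else if i < 81 then (fM e (i / 9 - 1)).testBit (i % 9) else false := by
    intro e he i
    by_cases h : i < 9
    · rw [if_pos h, fV, Nat.testBit_and, show (511 : ℕ) = 2 ^ 9 - 1 from rfl, Nat.testBit_two_pow_sub_one,
        decide_eq_true h, Bool.and_true]
    rw [if_neg h]
    by_cases h' : i < 81
    · rw [if_pos h', fM, Nat.testBit_and, show (511 : ℕ) = 2 ^ 9 - 1 from rfl, Nat.testBit_two_pow_sub_one,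
        decide_eq_true (Nat.mod_lt _ (by norm_num)), Bool.and_true, Nat.testBit_shiftRight,
        show 9 * (i / 9 - 1 + 1) + i % 9 = i by omega]
    · rw [if_neg h']
      exact Nat.testBit_eq_false_of_lt (he.trans_le (Nat.pow_le_pow_right (by norm_num) (by omega)))
  refine Nat.eq_of_testBit_eq fun i => ?_
  rw [key he i, key hf i, hV]
  split
  · rfl
  split
  · rw [hM _ (by omega)]
  · rfl

namespace Coded

variable {T : Type*} [Group T] {z : T} (L : Coded z)

theorem exists_elt {i : ℕ} (hi : i < nEnt) : ∃ t, L.Is t (codeAt i) :=
  let ⟨_, d, _, h⟩ := L.entry_conj hi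
  ⟨_, h⟩

/-- The element of an entry. -/
noncomputable def eltI (i : ℕ) : T := if h : i < nEnt then (L.exists_elt h).choose else 1

theorem is_eltI {i : ℕ} (hi : i < nEnt) : L.Is (L.eltI i) (codeAt i) := by
  rw [eltI, dif_pos hi]
  exact (L.exists_elt hi).choose_spec

theorem eltI_inj {i j : ℕ} (hi : i < nEnt) (hj : j < nEnt) (h : L.eltI i = L.eltI j) : codeAt i = codeAt j := by
  obtain ⟨h1, h2⟩ := (L.eq_iff (L.is_eltI hi) (L.is_eltI hj)).1 h
  exact code_ext (codeAt_lt i) (codeAt_lt j) h1 h2

/-- A conjugate of a representative of a long class is among the first entries. -/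
theorem mem_lists {k : ℕ} (hk : k < 10) (hl : isList k = true) {d : T} (hd : d * z = z * d) :
    ∃ i < nList, clsAt i = k ∧ L.Is (d * L.rep k * d⁻¹) (codeAt i) := by
  refine L.gen_induction8 (P := fun t => ∃ i < nList, clsAt i = k ∧ L.Is t (codeAt i)) ?_ hd
    ⟨k, hk.trans (by decide), (check_reps k hk).2.1, Is.rep L hk⟩
  rintro g hg t ⟨i, hi, hc, ht⟩
  obtain ⟨h1, h2, h3⟩ := okNext_all hi (by rw [hc]; exact hl) hg
  exact ⟨_, h1, h2.trans hc, h3 ▸ Is.conjG L g ht⟩

end Coded

end Cfsg.Agent.CoTwoClose
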