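/-
A Sylow 2-subgroup of Sp6(2) as codes, and the vectors over its involutions (owner: helper72).

* `check_step`, `check_par`, `check_nodup` : the 512 codes form a subgroup
* `check_squares` : the listed elements are those of order at most two
* `exists_vconj` : every involution over them is carried into the table by a vector
-/
import Cfsg.Agent.Lib.CoTwoClose.ForestCheck
import Cfsg.Agent.Lib.CoTwoClose.SylowData

set_option autoImplicit false
set_option maxRecDepth 20000
set_option maxHeartbeats 1000000

namespace Cfsg.Agent.CoTwoClose

/-- An element of the Sylow subgroup. -/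
def sylC (i : ℕ) : ℕ := ClassData.sElts.getD i 0

/-- The word of a generator. -/
def sylW (k : ℕ) : List (Fin 7) := (ClassData.sWords.getD k []).map (Fin.ofNat 7)

/-- Right multiplication by a generator. -/
def sylN (i k : ℕ) : ℕ := (ClassData.sNext.getD i []).getD k 0

/-- The predecessor of an element. -/
def sylP (i : ℕ) : ℕ × ℕ := ClassData.sPar.getD i (0, 0)

/-- The certificate of one multiplication. -/
def okStep (i : ℕ) : Bool :=
  (List.range 6).all fun k => Nat.blt (sylN i k) 512 && Nat.beq (mulF (sylC i) (sylC (k + 1))) (sylC (sylN i k))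

/-- The certificate of a predecessor. -/
def okPar (i : ℕ) : Bool :=
  Nat.beq i 0 || (Nat.blt (sylP i).1 i && Nat.blt (sylP i).2 6 && Nat.beq (sylN (sylP i).1 (sylP i).2) i)

/-- The codes agree on the nine fields. -/
def eqC (e f : ℕ) : Bool := Nat.beq (fV e) (fV f) && (List.range 8).all fun S => Nat.beq (fM e S) (fM f S)

theorem check_sylW : ∀ k < 6, wordE ((sylW k).map Fin.val) = sylC (k + 1) := by decide +kernel

theorem check_sylC0 : sylC 0 = cone := by decide +kernel

theorem check_sylV : ((List.range 512).all fun i => Nat.beq (fV (sylC i)) 0) = true := by decide +kernel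

theorem check_step : ((List.range 512).all okStep) = true := by decide +kernel

theorem check_par : ((List.range 512).all okPar) = true := by decide +kernel

theorem check_nodup : ((List.range 512).all fun i =>
    (List.range i).all fun j => !eqC (sylC i) (sylC j)) = true := by decide +kernel

theorem check_squares : ((List.range 512).all fun i =>
    ClassData.sInv.contains i || !eqC (mulF (sylC i) (sylC i)) cone) = true := by decide +kernel

/-- The inverse of a vector. -/
def invV (e : ℕ) : ℕ := bif Nat.beq (qmF e e) 0 then e else Nat.xor e 256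

/-- A vector and an entry for the vector `v` over `M`. -/
def okQ (M v a : ℕ) : Bool :=
  Nat.blt (Nat.shiftRight a 13) 512 && Nat.blt (invV (Nat.shiftRight a 13)) 512 &&
    Nat.beq (qmF (Nat.shiftRight a 13) (invV (Nat.shiftRight a 13))) 0 && Nat.blt (Nat.land a 8191) nEnt &&
    Nat.beq (vconjF (Nat.shiftRight a 13) (invV (Nat.shiftRight a 13)) (vconjF v 0 M)) (codeAt (Nat.land a 8191))

/-- The vector gives an involution over `M`. -/
def validQ (M : ℕ) (one : Bool) (v : ℕ) : Bool := Nat.beq (qmF v (appF M v)) 0 && !(one && Nat.beq v 0)

/-- The row covers the valid vectors in their order. -/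
def scanQ (M : ℕ) (one : Bool) : List ℕ → List ℕ → Bool
  | [], row => row.isEmpty
  | v :: vs, row =>
    bif validQ M one v then
      match row with
      | [] => false
      | a :: as => okQ M v a && scanQ M one vs as
    else scanQ M one vs row

/-- The row of a listed involution. -/
def okRow (n : ℕ) : Bool :=
  Nat.ble 144 n || scanQ (sylC (ClassData.sInv.getD n 0)) (Nat.beq (ClassData.sInv.getD n 0) 0) (List.range 512)
    ((ClassData.qRows.getD (Nat.div n 16) []).getD (Nat.mod n 16) [])

theorem check_inv_length : ClassData.sInv.length = 144 := by decide +kernel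

theorem check_rows0 : ((List.range' 0 36).all okRow) = true := by decide +kernel
theorem check_rows1 : ((List.range' 36 36).all okRow) = true := by decide +kernel
theorem check_rows2 : ((List.range' 72 36).all okRow) = true := by decide +kernel
theorem check_rows3 : ((List.range' 108 36).all okRow) = true := by decide +kernel

theorem scanQ_sound {M : ℕ} {one : Bool} : ∀ {vs row : List ℕ}, scanQ M one vs row = true →
    ∀ v ∈ vs, validQ M one v = true → ∃ a, okQ M v a = true
  | [], _, _, v, hv, _ => absurd hv List.not_mem_nil
  | u :: vs, row, h, v, hv, hval => by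
    rw [scanQ.eq_def] at h
    simp only [] at h
    rcases hb : validQ M one u with _ | _
    · rw [hb, cond_false] at h
      rcases List.mem_cons.1 hv with rfl | hv
      · rw [hb] at hval; exact absurd hval Bool.false_ne_true
      · exact scanQ_sound h v hv hval
    · rw [hb, cond_true] at h
      cases row with
      | nil => exact absurd h Bool.false_ne_true
      | cons a as =>
        simp only [Bool.and_eq_true] at h
        rcases List.mem_cons.1 hv with rfl | hv
        · exact ⟨a, h.1⟩
        · exact scanQ_sound h.2 v hv hval

/-- A valid vector over a listed involution is carried into the table. -/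
theorem exists_vconj {i : ℕ} (hi : i ∈ ClassData.sInv) {v : ℕ} (hv : v < 512)
    (hsq : qmF v (appF (sylC i) v) = 0) (h1 : i = 0 → v ≠ 0) :
    ∃ e < 512, ∃ q < 512, ∃ j < nEnt, qmF e q = 0 ∧ vconjF e q (vconjF v 0 (sylC i)) = codeAt j := by
  obtain ⟨n, hn', rfl⟩ := List.getElem_of_mem hi
  have hn : n < 144 := check_inv_length ▸ hn'
  have hrow : okRow n = true := by
    have h := fun {a : ℕ} (h : ((List.range' a 36).all okRow) = true) (q1 : a ≤ n) (q2 : n < a + 36) =>
      List.all_eq_true.1 h n (List.mem_range'_1.2 ⟨q1, q2⟩)
    rcases lt_or_ge n 36 with q | q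
    · exact h check_rows0 (Nat.zero_le n) (by omega)
    rcases lt_or_ge n 72 with q | q
    · exact h check_rows1 (by omega) (by omega)
    rcases lt_or_ge n 108 with q | q
    · exact h check_rows2 (by omega) (by omega)
    exact h check_rows3 (by omega) (by omega)
  simp only [okRow, Bool.or_eq_true] at hrow
  rcases hrow with k | hrow
  · exact absurd (Nat.le_of_ble_eq_true k) (by omega)
  rw [List.getD_eq_getElem _ _ hn'] at hrow
  generalize ClassData.sInv[n]'hn' = i at hrow hsq h1 ⊢
  have hval : validQ (sylC i) (Nat.beq i 0) v = true := by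
    rw [validQ, hsq]
    simp only [Bool.and_eq_true, Bool.not_eq_true', Bool.and_eq_false_iff]
    refine ⟨rfl, ?_⟩
    by_cases hv0 : v = 0
    · exact Or.inl (Bool.eq_false_iff.2 fun e => h1 (Nat.eq_of_beq_eq_true e) hv0)
    · exact Or.inr (Bool.eq_false_iff.2 fun e => hv0 (Nat.eq_of_beq_eq_true e))
  obtain ⟨a, ha⟩ := scanQ_sound hrow v (List.mem_range.2 hv) hval
  simp only [okQ, Bool.and_eq_true] at ha
  obtain ⟨⟨⟨⟨k1, k2⟩, k3⟩, k4⟩, k5⟩ := ha
  exact ⟨_, Nat.le_of_ble_eq_true k1, _, Nat.le_of_ble_eq_true k2, _, Nat.le_of_ble_eq_true k4,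
    Nat.eq_of_beq_eq_true k3, Nat.eq_of_beq_eq_true k5⟩

end Cfsg.Agent.CoTwoClose
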