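/-
The involutions of 2^(1+8).Sp6(2) fall into the classes of ten representatives (owner: helper72).

* `Coded.classify`, `Coded.exists_entry` : for a coded centraliser
* `ofBase` : coordinates with split relations give a coded centraliser
* `classify` : the same statement for `CoTwoType.Base` with `Split`
-/
import Cfsg.Agent.Lib.CoTwoClose.SylowCheck
import Cfsg.Agent.Lib.CoTwoType.C0

set_option autoImplicit false
set_option maxRecDepth 20000

namespace Cfsg.Agent.CoTwoClose

open CoTwoType (qm)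
open Multiplier.Sp6 (G0)

/-- A generator of the Sylow subgroup. -/
noncomputable def sylG (k : ℕ) : G0 := ((sylW k).map CoTwoType.T).prod

namespace Coded

variable {T : Type*} [Group T] {z : T} (L : Coded z)

theorem psi_eq_x {g : G0} {w : ℕ} (hw : w < 512) (h : L.psi g = L.x w) : g = 1 ∧ w = 0 := by
  have hg : g = 1 := by
    have hm : g ∈ L.trivAct := fun a ha => by
      rw [h, L.x_mul w hw a ha]
      rcases qm_comm_or hw ha with e1 | e1
      · left; rw [e1, ← L.x_mul a ha w hw, mul_inv_cancel_right]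
      · right
        rw [e1, ← L.x_mul_z (qm_lt ha hw), ← L.x_mul a ha w hw, mul_assoc (L.x a), L.x_comm_z hw,
          ← mul_assoc, mul_inv_cancel_right]
    rwa [L.trivAct_eq_bot, Subgroup.mem_bot] at hm
  refine ⟨hg, ?_⟩
  rw [hg, map_one, ← L.x_zero] at h
  exact (L.x_inj _ (by norm_num) _ hw h).symm

theorem psi_inj {g k : G0} (h : L.psi g = L.psi k) : g = k :=
  mul_inv_eq_one.1 (L.psi_eq_x (w := 0) (by norm_num)
    (by rw [map_mul, map_inv, h, mul_inv_cancel, L.x_zero])).1

theorem is_sylG {k : ℕ} (hk : k < 6) : L.Is (L.psi (sylG k)) (sylC (k + 1)) := by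
  have e : L.psi (sylG k) = ((sylW k).map L.h).prod := by
    rw [sylG, map_list_prod, List.map_map]
    exact congrArg List.prod (List.map_congr_left fun j _ => L.psi_T j)
  rw [e, ← check_sylW k hk]
  exact Is.word L

theorem syl_step {g : G0} {i k : ℕ} (hi : i < 512) (hk : k < 6) (hg : L.Is (L.psi g) (sylC i)) :
    sylN i k < 512 ∧ L.Is (L.psi (g * sylG k)) (sylC (sylN i k)) := by
  have h := List.all_eq_true.1 check_step i (List.mem_range.2 hi)
  simp only [okStep, List.all_eq_true, List.mem_range, Bool.and_eq_true] at h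
  obtain ⟨h1, h2⟩ := h k hk
  refine ⟨Nat.le_of_ble_eq_true h1, ?_⟩
  rw [← Nat.eq_of_beq_eq_true h2, mulF_eq, map_mul]
  exact Is.mul L hg (L.is_sylG hk)

theorem syl_exists : ∀ {i : ℕ}, i < 512 → ∃ g : G0, L.Is (L.psi g) (sylC i) := by
  intro i
  induction i using Nat.strong_induction_on with
  | _ i ih =>
    intro hi
    have h := List.all_eq_true.1 check_par i (List.mem_range.2 hi)
    simp only [okPar, Bool.or_eq_true, Bool.and_eq_true] at h
    rcases h with h | ⟨⟨h1, h2⟩, h3⟩
    · rw [Nat.eq_of_beq_eq_true h, check_sylC0]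
      exact ⟨1, by rw [map_one]; exact Is.one L⟩
    · obtain ⟨g, hg⟩ := ih _ (Nat.le_of_ble_eq_true h1) ((show (sylP i).1 < i from Nat.le_of_ble_eq_true h1).trans hi)
      refine ⟨g * sylG (sylP i).2, ?_⟩
      have := (L.syl_step ((show (sylP i).1 < i from Nat.le_of_ble_eq_true h1).trans hi) (Nat.le_of_ble_eq_true h2) hg).2
      rwa [Nat.eq_of_beq_eq_true h3] at this

theorem syl_mul {g : G0} {i : ℕ} (hi : i < 512) (hg : L.Is (L.psi g) (sylC i)) :
    ∀ {j : ℕ}, j < 512 → ∀ k : G0, L.Is (L.psi k) (sylC j) → ∃ n < 512, L.Is (L.psi (g * k)) (sylC n) := by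
  intro j
  induction j using Nat.strong_induction_on with
  | _ j ih =>
    intro hj k hk
    have h := List.all_eq_true.1 check_par j (List.mem_range.2 hj)
    simp only [okPar, Bool.or_eq_true, Bool.and_eq_true] at h
    rcases h with h | ⟨⟨h1, h2⟩, h3⟩
    · rw [Nat.eq_of_beq_eq_true h, check_sylC0] at hk
      have : k = 1 := L.psi_inj ((Is.unique L hk (Is.one L)).trans (map_one _).symm)
      rw [this, mul_one]
      exact ⟨i, hi, hg⟩
    · have hp : (sylP j).1 < j := Nat.le_of_ble_eq_true h1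
      obtain ⟨k', hk'⟩ := L.syl_exists (hp.trans hj)
      have he := (L.syl_step (hp.trans hj) (Nat.le_of_ble_eq_true h2) hk').2
      rw [Nat.eq_of_beq_eq_true h3] at he
      have : k = k' * sylG (sylP j).2 := L.psi_inj (Is.unique L hk he)
      obtain ⟨n, hn, hg'⟩ := ih _ hp (hp.trans hj) k' hk'
      obtain ⟨h4, h5⟩ := L.syl_step hn (Nat.le_of_ble_eq_true h2) hg'
      exact ⟨_, h4, by rwa [this, ← mul_assoc]⟩

/-- The listed elements of Sp6(2). -/
def sylSet : Set G0 := {g | ∃ i < 512, L.Is (L.psi g) (sylC i)}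

/-- The Sylow subgroup. -/
noncomputable def sylS : Subgroup G0 where
  carrier := L.sylSet
  one_mem' := ⟨0, by norm_num, by rw [map_one, check_sylC0]; exact Is.one L⟩
  mul_mem' := fun {g k} ⟨i, hi, hg⟩ ⟨j, hj, hk⟩ => L.syl_mul hi hg hj k hk
  inv_mem' := fun {g} hg => by
    have h1 : (1 : G0) ∈ L.sylSet := ⟨0, by norm_num, by rw [map_one, check_sylC0]; exact Is.one L⟩
    have hp : ∀ n : ℕ, g ^ n ∈ L.sylSet := by
      intro n
      induction n with
      | zero => rwa [pow_zero]
      | succ n ih =>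
        obtain ⟨i, hi, hgn⟩ := ih
        obtain ⟨j, hj, hg1⟩ := hg
        rw [pow_succ]
        exact L.syl_mul hi hgn hj g hg1
    have : g⁻¹ = g ^ (orderOf g - 1) := by
      refine inv_eq_of_mul_eq_one_right ?_
      rw [← pow_succ', Nat.sub_add_cancel (orderOf_pos g), pow_orderOf_eq_one]
    rw [this]
    exact hp _

theorem card_sylS : Nat.card L.sylS = 512 := by
  choose f hf using fun i : Fin 512 => L.syl_exists i.isLt
  have hb : Function.Bijective (fun i : Fin 512 => (⟨f i, ⟨i.val, i.isLt, hf i⟩⟩ : L.sylS)) := by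
    constructor
    · intro i j he
      have he' : f i = f j := congrArg Subtype.val he
      obtain ⟨e1, e2⟩ := (L.eq_iff (hf i) (hf j)).1 (by rw [he'])
      refine Fin.ext ?_
      by_contra hne
      have key : ∀ a b : ℕ, b < a → a < 512 → eqC (sylC a) (sylC b) = true → False := fun a b hab ha h => by
        have := List.all_eq_true.1 (List.all_eq_true.1 check_nodup a (List.mem_range.2 ha)) b (List.mem_range.2 hab)
        rw [h] at this
        exact Bool.false_ne_true this
      have hE : ∀ {a b : ℕ}, fV (sylC a) = fV (sylC b) → (∀ S < 8, fM (sylC a) S = fM (sylC b) S) →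
          eqC (sylC a) (sylC b) = true := fun {a b} h1 h2 => by
        simp only [eqC, Bool.and_eq_true, List.all_eq_true, List.mem_range]
        exact ⟨by rw [h1]; exact Nat.beq_refl _, fun S hS => by rw [h2 S hS]; exact Nat.beq_refl _⟩
      rcases lt_or_gt_of_ne hne with q | q
      · exact key _ _ q j.isLt (hE e1.symm fun S hS => (e2 S hS).symm)
      · exact key _ _ q i.isLt (hE e1 e2)
    · rintro ⟨g, i, hi, hg⟩
      exact ⟨⟨i, hi⟩, Subtype.ext (L.psi_inj (Is.unique L (hf ⟨i, hi⟩) hg))⟩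
  rw [← Nat.card_eq_of_bijective _ hb, Nat.card_fin]

theorem exists_conj_syl {g : G0} (hg : g * g = 1) : ∃ k : G0, k * g * k⁻¹ ∈ L.sylS := by
  haveI : Fact (Nat.Prime 2) := ⟨Nat.prime_two⟩
  obtain ⟨Q, hQ⟩ := (IsPGroup.of_card (n := 9) (L.card_sylS.trans (by norm_num)) : IsPGroup 2 L.sylS).exists_le_sylow
  have hQS : (Q : Subgroup G0) = L.sylS := by
    obtain ⟨n, hn⟩ := IsPGroup.iff_card.1 Q.isPGroup'
    have hd := Subgroup.card_subgroup_dvd_card (Q : Subgroup G0)
    rw [hn, Multiplier.Sp6.natCard_sp6] at hd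
    have hn9 : n ≤ 9 := by
      by_contra h
      have := (pow_dvd_pow 2 (show 10 ≤ n by omega)).trans hd
      norm_num at this
    refine (Subgroup.eq_of_le_of_card_ge hQ ?_).symm
    rw [hn, L.card_sylS]
    exact Nat.pow_le_pow_right (by norm_num) hn9
  have hz : IsPGroup 2 (Subgroup.zpowers g) := by
    have h2 : orderOf g ∣ 2 ^ 1 := by
      rw [pow_one]; exact orderOf_dvd_of_pow_eq_one (by rw [pow_two, hg])
    obtain ⟨n, -, hn⟩ := (Nat.dvd_prime_pow Nat.prime_two).1 h2
    exact IsPGroup.of_card (n := n) (by rw [Nat.card_zpowers, hn])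
  obtain ⟨R, hR⟩ := hz.exists_le_sylow
  obtain ⟨k, hk⟩ := MulAction.exists_smul_eq G0 R Q
  refine ⟨k, ?_⟩
  rw [← hQS, ← hk]
  exact Subgroup.smul_mem_pointwise_smul g (MulAut.conj k) _ (hR (Subgroup.mem_zpowers g))

/-- Every involution commuting with `z` is conjugate there to an entry of the table. -/
theorem exists_entry {c : T} (hc : c * z = z * c) (h2 : c * c = 1) (h1 : c ≠ 1) :
    ∃ i < nEnt, ∃ d, d * z = z * d ∧ L.Is (d * c * d⁻¹) (codeAt i) := by
  obtain ⟨g, v, hv, rfl⟩ := L.exists_code hc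
  obtain ⟨b, hb, eb⟩ := L.conj_x g v hv
  have hsq : L.x v * L.psi g * (L.x v * L.psi g) = L.x (qm v b) * L.psi (g * g) := by
    rw [← L.x_mul v hv b hb, ← eb, map_mul]; group
  obtain ⟨q, hq, hqi⟩ := exists_inv (qm_lt hv hb)
  have hgg : g * g = 1 := by
    refine (L.psi_eq_x hq ?_).1
    rw [← mul_right_inj (L.x (qm v b)), ← hsq, h2, L.x_mul _ (qm_lt hv hb) q hq, hqi, L.x_zero]
  obtain ⟨k, i, hi, hki⟩ := L.exists_conj_syl hgg
  set g' := k * g * k⁻¹ with hg'
  have hg'2 : g' * g' = 1 := by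
    rw [hg', show k * g * k⁻¹ * (k * g * k⁻¹) = k * (g * g) * k⁻¹ by group, hgg, mul_one, mul_inv_cancel]
  obtain ⟨w, hw, ew⟩ := L.conj_x k v hv
  have hc' : L.psi k * (L.x v * L.psi g) * (L.psi k)⁻¹ = L.x w * L.psi g' := by
    rw [← ew, hg']; simp only [map_mul, map_inv]; group
  have hsq' : L.x w * L.psi g' * (L.x w * L.psi g') = 1 := by
    rw [← hc', show ∀ a p : T, a * p * a⁻¹ * (a * p * a⁻¹) = a * (p * p) * a⁻¹ from fun a p => by group, h2,
      mul_one, mul_inv_cancel]
  have hIw : L.Is (L.x w * L.psi g' * L.x 0) (vconjF w 0 (sylC i)) := Is.vconj L hki hw (by norm_num)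
  rw [L.x_zero, mul_one] at hIw
  -- the element of the Sylow subgroup is listed
  have hiI : i ∈ ClassData.sInv := by
    have h := List.all_eq_true.1 check_squares i (List.mem_range.2 hi)
    simp only [Bool.or_eq_true, List.contains_iff_mem] at h
    rcases h with h | h
    · exact h
    exfalso
    have e1 : L.Is (L.psi g' * L.psi g') (cmul (sylC i) (sylC i)) := Is.mul L hki hki
    rw [← map_mul, hg'2, map_one] at e1
    obtain ⟨f1, f2⟩ := (L.eq_iff e1 (Is.one L)).1 rfl
    rw [Bool.not_eq_true', mulF_eq] at h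
    refine Bool.false_ne_true (h.symm.trans ?_)
    simp only [eqC, Bool.and_eq_true, List.all_eq_true, List.mem_range]
    exact ⟨by rw [f1]; exact Nat.beq_refl _, fun S hS => by rw [f2 S hS]; exact Nat.beq_refl _⟩
  have hv0 : fV (sylC i) = 0 := Nat.eq_of_beq_eq_true (List.all_eq_true.1 check_sylV i (List.mem_range.2 hi))
  obtain ⟨g₀, e0, himg⟩ := hki
  rw [hv0, L.x_zero, one_mul] at e0
  obtain rfl : g' = g₀ := L.psi_inj e0
  have hvw : qmF w (appF (sylC i) w) = 0 := by
    rw [qmF_eq, appF_eq _ hw]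
    refine L.x_inj _ (qm_lt hw (appC_lt _ w)) _ (by norm_num) ?_
    rw [← L.x_mul w hw _ (appC_lt _ w), ← L.conj_app (L.psi_comm_z g') himg hw, L.x_zero, ← hsq']
    rw [inv_eq_of_mul_eq_one_right (show L.psi g' * L.psi g' = 1 by rw [← map_mul, hg'2, map_one])]
    simp only [mul_assoc]
  have h1' : i = 0 → w ≠ 0 := by
    rintro rfl rfl
    refine h1 ?_
    have hI0 : L.Is (L.x 0 * L.psi g' * L.x 0) (vconjF 0 0 cone) :=
      Is.vconj L ⟨g', by rw [show fV cone = 0 by rfl, L.x_zero, one_mul], check_sylC0 ▸ himg⟩ (by norm_num)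
        (by norm_num)
    have hI1 : L.Is (L.x 0 * 1 * L.x 0) (vconjF 0 0 cone) := Is.vconj L (Is.one L) (by norm_num) (by norm_num)
    have e := Is.unique L hI0 hI1
    simp only [L.x_zero, one_mul, mul_one] at e
    rw [L.x_zero, one_mul, e] at hc'
    calc L.x v * L.psi g = (L.psi k)⁻¹ * (L.psi k * (L.x v * L.psi g) * (L.psi k)⁻¹) * L.psi k := by group
      _ = 1 := by rw [hc', mul_one, inv_mul_cancel]
  obtain ⟨e, he, q', hq', j, hj, heq, hcode⟩ := exists_vconj hiI hw hvw h1'
  have hinv : (L.x e)⁻¹ = L.x q' :=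
    inv_eq_of_mul_eq_one_right (by rw [L.x_mul e he q' hq', ← qmF_eq, heq, L.x_zero])
  refine ⟨j, hj, L.x e * L.psi k, ?_, ?_⟩
  · rw [mul_assoc, L.psi_comm_z, ← mul_assoc, L.x_comm_z he, mul_assoc]
  · rw [← hcode, show L.x e * L.psi k * (L.x v * L.psi g) * (L.x e * L.psi k)⁻¹ =
      L.x e * (L.psi k * (L.x v * L.psi g) * (L.psi k)⁻¹) * (L.x e)⁻¹ by group, hc', hinv]
    exact Is.vconj L hIw he hq'

/-- The ten classes. -/
theorem classify {c : T} (hc : c * z = z * c) (h2 : c * c = 1) (h1 : c ≠ 1) :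
    ∃ k < 10, ∃ d, d * z = z * d ∧ d * c * d⁻¹ = L.rep k := by
  obtain ⟨i, hi, d, hd, he⟩ := L.exists_entry hc h2 h1
  obtain ⟨hk, d', hd', he'⟩ := L.exists_isConj_rep hi he
  refine ⟨_, hk, d'⁻¹ * d, ((show Commute d' z from hd').inv_left.mul_left hd).eq, ?_⟩
  rw [show d'⁻¹ * d * c * (d'⁻¹ * d)⁻¹ = d'⁻¹ * (d * c * d⁻¹) * d' by group, ← he']
  group

end Coded

universe u

variable {G : Type u} [Group G] {z : G}

/-- Coordinates with split relations, as a coded centraliser. -/
def ofBase (L : CoTwoType.Base z) (hS : L.Split) : Coded z where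
  h := L.h
  x := L.x
  x_mul := L.x_mul
  x_inj := L.x_inj
  x_z := L.x_z
  h_conj := L.h_conj
  rel := hS.rel
  long := hS.long
  gen := fun c hc => L.gen c hc

theorem el_ofBase (L : CoTwoType.Base z) (hS : L.Split) (a : ℕ × List (Fin 7)) : (ofBase L hS).el a = L.el a := rfl

/-- **The involutions of the centraliser of `z` fall into ten classes.** -/
theorem classify (L : CoTwoType.Base z) (hS : L.Split) {c : G} (hc : Commute c z) (h2 : c * c = 1) (h1 : c ≠ 1) :
    ∃ r ∈ reps, ∃ d, Commute d z ∧ d * c * d⁻¹ = L.el r := by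
  obtain ⟨k, hk, d, hd, e⟩ := (ofBase L hS).classify hc.eq h2 h1
  refine ⟨reps.getD k (0, []), ?_, d, hd, e⟩
  rw [List.getD_eq_getElem _ _ (show k < reps.length from hk)]
  exact List.getElem_mem _

end Cfsg.Agent.CoTwoClose
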