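/-
A sharper pair criterion for the closing step, and conjugates of `z` by parity (owner: helper72).

* `centralizer_le_of_pair` : only the involutions `y` with `s * y` conjugate to `s` or `t` need to be safe
* `exists_commute_of_parity` : an involution commutes with an element of a set of odd fixed part
-/
import Cfsg.Agent.Lib.TransvCent.Closing

set_option autoImplicit false

namespace Cfsg.Agent.CoTwoClose

open TransvCent.Closing (Setting Fix Safe dihedral inv_conj_pow conj_left)

variable {G : Type*} [Group G] {H : Subgroup G} {W : Set G}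

/-- The pair criterion: two safe involutions `s`, `t` of the centralizer of `W` in `H`, not fused there, such that
no involution of `W` pairs their classes as in a dihedral group, and every involution `y` there commuting with `s`
for which `s * y` is conjugate to `s` or `t` there lies in `W` or is safe. -/
theorem centralizer_le_of_pair [Finite G] {s t : G} (hs : Safe H W s) (hs2 : s * s = 1) (ht : Safe H W t)
    (ht2 : t * t = 1) (hne : ∀ h ∈ H, Fix W h → h * s * h⁻¹ ≠ t)
    (hsafe : ∀ y ∈ H, Fix W y → orderOf y = 2 → y * s = s * y →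
      (∃ x ∈ H, Fix W x ∧ (x * (s * y) * x⁻¹ = s ∨ x * (s * y) * x⁻¹ = t)) → y ∈ W ∨ Safe H W y)
    (hpair : ∀ w ∈ W, orderOf w = 2 →
      (∀ h ∈ H, Fix W h → h * s * h⁻¹ ≠ s * w ∨ ∀ h' ∈ H, Fix W h' → h' * t * h'⁻¹ ≠ t * w) ∧
      (∀ h ∈ H, Fix W h → h * s * h⁻¹ ≠ t * w ∨ h * (s * w) * h⁻¹ ≠ t)) :
    ∀ c : G, Fix W c → c ∈ H := by
  intro c hc
  set t' := c * t * c⁻¹ with ht'
  have ht'2 : t' * t' = 1 := by
    have : t' * t' = c * (t * t) * c⁻¹ := by simp only [ht']; group
    rw [this, ht2]; group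
  set d := s * t' with hd
  have hdW : Fix W d := hs.2.1.mul ((hc.mul ht.2.1).mul hc.inv)
  rcases Nat.even_or_odd (orderOf d) with ⟨k, hk⟩ | ⟨k, hk⟩
  · have hk2 : orderOf (s * t') = 2 * k := by rw [← hd]; omega
    have hkpos : 0 < k := by have := orderOf_pos d; omega
    have hw2 : orderOf (d ^ k) = 2 := by
      rw [orderOf_pow' d (by omega), show orderOf d = 2 * k by omega, Nat.gcd_mul_left_left,
        Nat.mul_div_cancel _ hkpos]
    have hwsq : d ^ k * d ^ k = 1 := by rw [← pow_two, ← hw2]; exact pow_orderOf_eq_one _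
    have hws : d ^ k * s = s * d ^ k := by
      have h1 := inv_conj_pow hs2 ht'2 k
      rw [← hd, inv_eq_of_mul_eq_one_right hwsq] at h1
      calc d ^ k * s = s * d ^ k * s * s := by rw [h1]
        _ = s * d ^ k * (s * s) := by group
        _ = s * d ^ k := by rw [hs2, mul_one]
    have hwt : d ^ k * t' = t' * d ^ k := by
      have h1 : t' = s * d := by rw [hd, ← mul_assoc, hs2, one_mul]
      rw [h1, ← mul_assoc, hws, mul_assoc, mul_assoc, ← pow_succ, ← pow_succ']
    have hwW : Fix W (d ^ k) := hdW.pow k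
    by_cases hmem : d ^ k ∈ W
    · exfalso
      have hcw : c⁻¹ * d ^ k * c = d ^ k := by
        have := hc.inv.conj_eq hmem
        simpa using this
      rcases dihedral hs2 ht'2 hk2 with ⟨j, e1, e2⟩ | ⟨j, e1, e2⟩
      · rw [← hd] at e1 e2
        have hF : Fix W (d ^ j) := hdW.pow j
        have hjH : d ^ j ∈ H := by
          refine (H.inv_mem_iff).mp (hs.2.2 (d ^ j)⁻¹ hF.inv ?_)
          rw [inv_inv, e1]
          have : d ^ k ∈ H := by
            refine hs.2.2 _ hwW ?_
            rw [mul_assoc, ← hws, inv_mul_cancel_left]; exact hs.1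
          exact H.mul_mem hs.1 this
        have hwH : d ^ k ∈ H := by
          refine hs.2.2 _ hwW ?_
          rw [mul_assoc, ← hws, inv_mul_cancel_left]; exact hs.1
        have e3 : (c⁻¹ * d ^ j * c) * t * (c⁻¹ * d ^ j * c)⁻¹ = t * d ^ k := by
          calc (c⁻¹ * d ^ j * c) * t * (c⁻¹ * d ^ j * c)⁻¹ = c⁻¹ * (d ^ j * t' * (d ^ j)⁻¹) * c := by
                simp only [ht']; group
            _ = t * (c⁻¹ * d ^ k * c) := by rw [e2, ht']; group
            _ = t * d ^ k := by rw [hcw]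
        have hF' : Fix W (c⁻¹ * d ^ j * c) := (hc.inv.mul hF).mul hc
        have hjH' : c⁻¹ * d ^ j * c ∈ H := by
          refine (H.inv_mem_iff).mp (ht.2.2 _ hF'.inv ?_)
          rw [inv_inv, e3]
          exact H.mul_mem ht.1 hwH
        rcases (hpair _ hmem hw2).1 _ hjH hF with h | h
        · exact h e1
        · exact h _ hjH' hF' e3
      · rw [← hd] at e1 e2
        have hF : Fix W (c⁻¹ * d ^ j) := hc.inv.mul (hdW.pow j)
        have hcw' : c⁻¹ * d ^ k = d ^ k * c⁻¹ := hc.inv _ hmem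
        have f1 : (c⁻¹ * d ^ j) * s * (c⁻¹ * d ^ j)⁻¹ = t * d ^ k := by
          calc (c⁻¹ * d ^ j) * s * (c⁻¹ * d ^ j)⁻¹ = c⁻¹ * (d ^ j * s * (d ^ j)⁻¹) * c := by group
            _ = t * (c⁻¹ * d ^ k * c) := by rw [e1, ht']; group
            _ = t * d ^ k := by rw [hcw]
        have f2 : (c⁻¹ * d ^ j) * (s * d ^ k) * (c⁻¹ * d ^ j)⁻¹ = t := by
          calc (c⁻¹ * d ^ j) * (s * d ^ k) * (c⁻¹ * d ^ j)⁻¹
                = c⁻¹ * (d ^ j * (s * d ^ k) * (d ^ j)⁻¹) * c := by group
            _ = t := by rw [e2, ht']; group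
        have hwH : d ^ k ∈ H := by
          refine hs.2.2 _ hwW ?_
          rw [mul_assoc, ← hws, inv_mul_cancel_left]; exact hs.1
        have hH : c⁻¹ * d ^ j ∈ H := by
          refine (H.inv_mem_iff).mp (hs.2.2 _ hF.inv ?_)
          rw [inv_inv, f1]
          exact H.mul_mem ht.1 hwH
        rcases (hpair _ hmem hw2).2 _ hH hF with h | h
        · exact h f1
        · exact h f2
    · have hwH : d ^ k ∈ H := by
        refine hs.2.2 _ hwW ?_
        rw [mul_assoc, ← hws, inv_mul_cancel_left]; exact hs.1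
      have hx : ∃ x ∈ H, Fix W x ∧ (x * (s * d ^ k) * x⁻¹ = s ∨ x * (s * d ^ k) * x⁻¹ = t) := by
        rcases dihedral hs2 ht'2 hk2 with ⟨j, e1, -⟩ | ⟨j, -, e2⟩
        · rw [← hd] at e1
          have hF : Fix W (d ^ j)⁻¹ := (hdW.pow j).inv
          refine ⟨(d ^ j)⁻¹, hs.2.2 _ hF ?_, hF, Or.inl ?_⟩
          · rw [inv_inv, e1]; exact H.mul_mem hs.1 hwH
          · rw [← e1]; group
        · rw [← hd] at e2
          have f2 : (c⁻¹ * d ^ j) * (s * d ^ k) * (c⁻¹ * d ^ j)⁻¹ = t := by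
            calc (c⁻¹ * d ^ j) * (s * d ^ k) * (c⁻¹ * d ^ j)⁻¹
                  = c⁻¹ * (d ^ j * (s * d ^ k) * (d ^ j)⁻¹) * c := by group
              _ = t := by rw [e2, ht']; group
          have hF : Fix W (c⁻¹ * d ^ j) := hc.inv.mul (hdW.pow j)
          refine ⟨c⁻¹ * d ^ j, ht.2.2 _ hF ?_, hF, Or.inr f2⟩
          have f3 : (c⁻¹ * d ^ j)⁻¹ * t * (c⁻¹ * d ^ j) = s * d ^ k := by rw [← f2]; group
          rw [f3]
          exact H.mul_mem hs.1 hwH
      rcases hsafe _ hwH hwW hw2 hws hx with h | h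
      · exact absurd h hmem
      refine h.2.2 c hc ?_
      refine ht.2.2 _ ((hc.inv.mul hwW).mul hc) ?_
      have : (c⁻¹ * d ^ k * c)⁻¹ * t * (c⁻¹ * d ^ k * c) = c⁻¹ * ((d ^ k)⁻¹ * (t' * d ^ k)) * c := by
        simp only [ht']; group
      rw [this, ← hwt, inv_mul_cancel_left, ht']
      simpa [mul_assoc] using ht.1
  · exfalso
    have hdk := conj_left hs2 ht'2 k
    rw [← hd] at hdk
    have h2k : d ^ (k + k) * s = t' := by
      have h1 : d ^ (k + k) * d = 1 := by
        rw [← pow_succ, ← pow_orderOf_eq_one d]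
        congr 1
        omega
      rw [eq_inv_of_mul_eq_one_left h1, hd, mul_inv_rev, inv_eq_of_mul_eq_one_right hs2,
        inv_eq_of_mul_eq_one_right ht'2, mul_assoc, hs2, mul_one]
    have e : (c⁻¹ * d ^ k) * s * (c⁻¹ * d ^ k)⁻¹ = t := by
      calc (c⁻¹ * d ^ k) * s * (c⁻¹ * d ^ k)⁻¹ = c⁻¹ * (d ^ k * s * (d ^ k)⁻¹) * c := by group
        _ = t := by rw [hdk, h2k, ht']; group
    have hF : Fix W (c⁻¹ * d ^ k) := hc.inv.mul (hdW.pow k)
    have hH : c⁻¹ * d ^ k ∈ H := by
      refine (H.inv_mem_iff).mp (hs.2.2 _ hF.inv ?_)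
      rw [inv_inv, e]; exact ht.1
    exact hne _ hH hF e

/-- A set carried into itself by conjugation with two involutions: if those of its elements commuting with the
first are odd in number, one commutes with the second. -/
theorem exists_commute_of_parity [Finite G] {z y : G} (hz : z * z = 1) (hy : y * y = 1) {D : Set G}
    (hDz : ∀ v ∈ D, z * v * z⁻¹ ∈ D) (hDy : ∀ v ∈ D, y * v * y⁻¹ ∈ D)
    (hodd : Odd {v | v ∈ D ∧ v * z = z * v}.ncard) : ∃ v ∈ D, v * y = y * v := by
  classical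
  haveI : Fact (Nat.Prime 2) := ⟨Nat.prime_two⟩
  have key : ∀ (w : G), w * w = 1 → (∀ v ∈ D, w * v * w⁻¹ ∈ D) →
      D.ncard ≡ {v | v ∈ D ∧ v * w = w * v}.ncard [MOD 2] := by
    intro w hw hDw
    let f : Function.End D := fun v => ⟨w * v.1 * w⁻¹, hDw _ v.2⟩
    have hf : f ^ 2 ^ 1 = 1 := by
      funext v
      refine Subtype.ext ?_
      show w * (w * v.1 * w⁻¹) * w⁻¹ = v.1
      rw [← mul_assoc w (w * v.1), ← mul_assoc w w, hw, one_mul, mul_assoc, ← mul_inv_rev, hw, inv_one, mul_one]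
    haveI : Fintype D := Fintype.ofFinite _
    have h := Equiv.Perm.card_fixedPoints_modEq (p := 2) (n := 1) hf
    rw [Fintype.card_eq_nat_card, Fintype.card_eq_nat_card, Nat.card_coe_set_eq] at h
    refine h.trans ?_
    rw [show Nat.card (Function.fixedPoints f) = {v | v ∈ D ∧ v * w = w * v}.ncard from ?_]
    refine (Nat.card_coe_set_eq (Function.fixedPoints f)).trans
      ((Set.ncard_image_of_injective _ (Subtype.val_injective (p := (· ∈ D)))).symm.trans
        (congrArg Set.ncard (Set.ext fun v => ?_)))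
    simp only [Set.mem_image, Set.mem_ofPred_eq, Function.mem_fixedPoints, Function.IsFixedPt, f, Subtype.ext_iff]
    constructor
    · rintro ⟨u, hu, rfl⟩
      exact ⟨u.2, (mul_inv_eq_iff_eq_mul.1 hu).symm⟩
    · rintro ⟨hv, e⟩
      exact ⟨⟨v, hv⟩, by rw [← e, mul_inv_cancel_right], rfl⟩
  have hD : Odd D.ncard := by
    have := key z hz hDz
    rw [Nat.odd_iff] at hodd ⊢
    rw [Nat.ModEq] at this
    omega
  have h2 := key y hy hDy
  rw [Nat.ModEq, Nat.odd_iff.1 hD] at h2
  obtain ⟨v, hv, hvy⟩ : {v | v ∈ D ∧ v * y = y * v}.Nonempty := by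
    rw [Set.nonempty_iff_ne_empty]
    intro e
    rw [e, Set.ncard_empty] at h2
    omega
  exact ⟨v, hv, hvy⟩

end Cfsg.Agent.CoTwoClose
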