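/-
The closing step for the second Conway group, from finite facts inside the model (owner: helper72).

`T` is the model with the involution `z`, `φ : T →* G` is injective and its range contains `C(φ z)`.

* `Node z W t Rest` : what is needed to put the centraliser of `W` into the range
* `Model z b c` : the facts inside `T`
* `Model.range_eq_top` : `φ` is surjective as soon as `φ z` is conjugate to neither `φ b` nor `φ c`
-/
import Cfsg.Agent.Lib.CoTwoClose.Pair

set_option autoImplicit false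

namespace Cfsg.Agent.CoTwoClose

open TransvCent.Closing (Setting Fix Safe eq_top_of_pair)

variable {T : Type*} [Group T]

/-- The centraliser of the involutions of `W` is reached from the safe pair `z`, `t`; the exceptions satisfy
`Rest`. -/
structure Node (z : T) (W : Set T) (t : T) (Rest : T → Prop) : Prop where
  z_fix : Fix W z
  t_cls : IsConj z t
  t_fix : Fix W t
  odd : Odd {v | (IsConj z v ∧ Fix W v) ∧ v * z = z * v}.ncard
  hne : ∀ h, Fix W h → h * z * h⁻¹ ≠ t
  hpair : ∀ w ∈ W, orderOf w = 2 →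
    (∀ h, Fix W h → h * z * h⁻¹ ≠ z * w ∨ ∀ h', Fix W h' → h' * t * h'⁻¹ ≠ t * w) ∧
      ∀ h, Fix W h → h * z * h⁻¹ ≠ t * w ∨ h * (z * w) * h⁻¹ ≠ t
  bad : ∀ u, u * z = z * u → Fix W u → orderOf u = 2 →
    (∃ x, Fix W x ∧ (x * (z * u) * x⁻¹ = z ∨ x * (z * u) * x⁻¹ = t)) →
    u ∈ W ∨ IsConj z u ∨ (∃ w ∈ W, IsConj z (u * w)) ∨ Rest u

/-- The facts inside the model. -/
structure Model (z b c : T) : Prop where
  z_ord : orderOf z = 2
  b_ord : orderOf b = 2
  c_ord : orderOf c = 2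
  b_c : b * c = c * b
  cls : ∀ x, x * z = z * x → orderOf x = 2 → IsConj z x ∨ IsConj b x ∨ IsConj c x
  odd : Odd {v | IsConj z v ∧ v * z = z * v}.ncard
  node_cb : ∃ t, Node z ({c, b, c * b} : Set T) t fun _ => False
  node_c : ∃ t, Node z ({c} : Set T) t fun u => ∃ d, d * c = c * d ∧ (d * u * d⁻¹ = b ∨ d * u * d⁻¹ = b * c)
  node_b : ∃ t, Node z ({b} : Set T) t fun u => IsConj c u ∨ IsConj c (u * b)

section

variable {G : Type*} [Group G] {φ : T →* G}

theorem fix_map (hφ : Function.Injective φ) {W : Set T} {x : T} : Fix (φ '' W) (φ x) ↔ Fix W x := by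
  constructor
  · intro h w hw
    refine hφ ?_
    rw [map_mul, map_mul]
    exact h _ ⟨w, hw, rfl⟩
  · rintro h _ ⟨w, hw, rfl⟩
    rw [← map_mul, ← map_mul, h w hw]

theorem isConj_of_range {z : T} (hφ : Function.Injective φ) (S : Setting φ.range (φ z)) {x : T}
    (h : IsConj (φ z) (φ x)) : IsConj z x := by
  obtain ⟨g, hg⟩ := isConj_iff.1 h
  obtain ⟨_, ⟨k, rfl⟩, hk⟩ := S.fuse g (by rw [hg]; exact ⟨x, rfl⟩)
  rw [hg, ← map_inv, ← map_mul, ← map_mul] at hk
  exact isConj_iff.2 ⟨k, hφ hk⟩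

theorem range_mem_of_conj {x : T} {g : G} (h : φ x * g * (φ x)⁻¹ ∈ φ.range) : g ∈ φ.range := by
  have hx : φ x ∈ φ.range := ⟨x, rfl⟩
  have := φ.range.mul_mem (φ.range.mul_mem (φ.range.inv_mem hx) h) hx
  simpa [mul_assoc] using this

variable [Finite G]

/-- The centraliser of `W` lies in the range. -/
theorem Node.centralizer_le {z : T} {W : Set T} {t : T} {Rest : T → Prop} (N : Node z W t Rest)
    (hz : z * z = 1) (hφ : Function.Injective φ) (S : Setting φ.range (φ z))
    (hW : ∀ w ∈ W, w * w = 1)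
    (hrest : ∀ u, Rest u → Fix W u → ∀ g : G, Fix (φ '' W) g → g * φ u = φ u * g → g ∈ φ.range) :
    ∀ g : G, Fix (φ '' W) g → g ∈ φ.range := by
  haveI : Finite T := Finite.of_injective φ hφ
  have hzz : φ z * φ z = 1 := by rw [← map_mul, hz, map_one]
  have htt : φ t * φ t = 1 := by
    obtain ⟨g, rfl⟩ := isConj_iff.1 N.t_cls
    rw [← map_mul, show g * z * g⁻¹ * (g * z * g⁻¹) = g * (z * z) * g⁻¹ by group, hz, mul_one, mul_inv_cancel,
      map_one]
  have hv : ∀ v ∈ φ.range, Fix (φ '' W) v → v ^ 2 = 1 →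
      ∃ u ∈ φ.range, Fix (φ '' W) u ∧ IsConj (φ z) u ∧ u * v = v * u := by
    rintro _ ⟨v, rfl⟩ hvW hv2
    have hFv := (fix_map hφ).1 hvW
    have hvv : v * v = 1 := hφ (by rw [map_mul, ← pow_two, hv2, map_one])
    have hstab : ∀ w : T, Fix W w → ∀ u, IsConj z u ∧ Fix W u → IsConj z (w * u * w⁻¹) ∧ Fix W (w * u * w⁻¹) :=
      fun w hw u hu => ⟨hu.1.trans (isConj_iff.2 ⟨w, rfl⟩), (hw.mul hu.2).mul hw.inv⟩
    obtain ⟨u, ⟨huc, huW⟩, hcomm⟩ := exists_commute_of_parity hz hvv (D := {u | IsConj z u ∧ Fix W u})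
      (fun u hu => hstab z N.z_fix u hu) (fun u hu => hstab v hFv u hu) N.odd
    exact ⟨φ u, ⟨u, rfl⟩, (fix_map hφ).2 huW, φ.map_isConj huc, by rw [← map_mul, ← map_mul, hcomm]⟩
  refine centralizer_le_of_pair (s := φ z) (t := φ t)
    (Safe.of_isConj S ⟨z, rfl⟩ ((fix_map hφ).2 N.z_fix) (IsConj.refl _)) hzz
    (Safe.of_isConj S ⟨t, rfl⟩ ((fix_map hφ).2 N.t_fix) (φ.map_isConj N.t_cls)) htt ?_ ?_ ?_
  · rintro _ ⟨h, rfl⟩ hF e
    rw [← map_inv, ← map_mul, ← map_mul] at e
    exact N.hne h ((fix_map hφ).1 hF) (hφ e)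
  · rintro _ ⟨u, rfl⟩ hF h2 hcomm hx
    have hFu := (fix_map hφ).1 hF
    rw [orderOf_injective φ hφ] at h2
    rw [← map_mul, ← map_mul] at hcomm
    obtain ⟨_, ⟨x, rfl⟩, hxF, hxe⟩ := hx
    simp only [← map_mul, ← map_inv] at hxe
    rcases N.bad u (hφ hcomm) hFu h2 ⟨x, (fix_map hφ).1 hxF, hxe.imp (fun e => hφ e) fun e => hφ e⟩ with
      e | e | ⟨w, hw, e⟩ | e
    · exact Or.inl ⟨u, e, rfl⟩
    · exact Or.inr (Safe.of_isConj S ⟨u, rfl⟩ hF (φ.map_isConj e))
    · exact Or.inr (Safe.of_mul S ⟨u, rfl⟩ hF ⟨w, hw, rfl⟩ ⟨w, rfl⟩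
        (by rw [← map_mul]; exact φ.map_isConj e))
    · refine Or.inr (Safe.of_centralizer S ⟨u, rfl⟩ hF ?_ (fun g hg hgu => hrest u e hFu g hg hgu) hv)
      rw [← map_pow, ← h2, pow_orderOf_eq_one, map_one]
  · rintro _ ⟨w, hw, rfl⟩ hw2
    rw [orderOf_injective φ hφ] at hw2
    obtain ⟨p1, p2⟩ := N.hpair w hw hw2
    constructor
    · rintro _ ⟨h, rfl⟩ hF
      rcases p1 h ((fix_map hφ).1 hF) with e | e
      · exact Or.inl fun e' => e (hφ (by simpa only [map_mul, map_inv] using e'))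
      · refine Or.inr ?_
        rintro _ ⟨h', rfl⟩ hF' e'
        exact e h' ((fix_map hφ).1 hF') (hφ (by simpa only [map_mul, map_inv] using e'))
    · rintro _ ⟨h, rfl⟩ hF
      rcases p2 h ((fix_map hφ).1 hF) with e | e
      · exact Or.inl fun e' => e (hφ (by simpa only [map_mul, map_inv] using e'))
      · exact Or.inr fun e' => e (hφ (by simpa only [map_mul, map_inv] using e'))

namespace Model

variable {z b c : T}

theorem setting (M : Model z b c) (hφ : Function.Injective φ)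
    (hC : ∀ g : G, g * φ z = φ z * g → g ∈ φ.range) (hb : ¬ IsConj (φ z) (φ b)) (hc : ¬ IsConj (φ z) (φ c)) :
    Setting φ.range (φ z) := by
  haveI : Finite T := Finite.of_injective φ hφ
  have hz : z * z = 1 := by rw [← pow_two, ← M.z_ord, pow_orderOf_eq_one]
  refine ⟨hC, fun g hg => ?_⟩
  obtain ⟨x, hx⟩ := hg
  have hxo : orderOf x = 2 := by
    rw [← orderOf_injective φ hφ, hx, ← M.z_ord, ← orderOf_injective φ hφ z]
    exact orderOf_injective (MulAut.conj g).toMonoidHom (MulAut.conj g).injective (φ z)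
  have hxx : x * x = 1 := by rw [← pow_two, ← hxo, pow_orderOf_eq_one]
  obtain ⟨v, hvc, hvx⟩ := exists_commute_of_parity hz hxx (D := {v | IsConj z v})
    (fun v hv => hv.trans (isConj_iff.2 ⟨z, rfl⟩)) (fun v hv => hv.trans (isConj_iff.2 ⟨x, rfl⟩)) M.odd
  obtain ⟨k, hk⟩ := isConj_iff.1 (show IsConj v z from IsConj.symm hvc)
  have hcomm : (k * x * k⁻¹) * z = z * (k * x * k⁻¹) := by
    rw [← hk]
    calc k * x * k⁻¹ * (k * v * k⁻¹) = k * (x * v) * k⁻¹ := by group
      _ = k * (v * x) * k⁻¹ := by rw [hvx]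
      _ = k * v * k⁻¹ * (k * x * k⁻¹) := by group
  have hord : orderOf (k * x * k⁻¹) = 2 :=
    (orderOf_injective (MulAut.conj k).toMonoidHom (MulAut.conj k).injective x).trans hxo
  have hxk : IsConj x (k * x * k⁻¹) := isConj_iff.2 ⟨k, rfl⟩
  have hG : IsConj (φ z) (φ x) := hx ▸ isConj_iff.2 ⟨g, rfl⟩
  rcases M.cls _ hcomm hord with e | e | e
  · obtain ⟨h, hh⟩ := isConj_iff.1 (e.trans hxk.symm)
    exact ⟨φ h, ⟨h, rfl⟩, by rw [← hx, ← map_inv, ← map_mul, ← map_mul, hh]⟩
  · exact absurd (hG.trans (φ.map_isConj (hxk.trans e.symm))) hb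
  · exact absurd (hG.trans (φ.map_isConj (hxk.trans e.symm))) hc

/-- **The closing step.** -/
theorem range_eq_top (M : Model z b c) (hφ : Function.Injective φ)
    (hC : ∀ g : G, g * φ z = φ z * g → g ∈ φ.range) (hb : ¬ IsConj (φ z) (φ b)) (hc : ¬ IsConj (φ z) (φ c)) :
    φ.range = ⊤ := by
  haveI : Finite T := Finite.of_injective φ hφ
  have hz : z * z = 1 := by rw [← pow_two, ← M.z_ord, pow_orderOf_eq_one]
  have hbb : b * b = 1 := by rw [← pow_two, ← M.b_ord, pow_orderOf_eq_one]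
  have hcc : c * c = 1 := by rw [← pow_two, ← M.c_ord, pow_orderOf_eq_one]
  have S := M.setting hφ hC hb hc
  -- the centraliser of `c` and `b`
  have hCB : ∀ g : G, g * φ c = φ c * g → g * φ b = φ b * g → g ∈ φ.range := by
    intro g h1 h2
    obtain ⟨t, N⟩ := M.node_cb
    refine N.centralizer_le hz hφ S ?_ (fun _ h => h.elim) g ?_
    · intro w hw
      simp only [Set.mem_insert_iff, Set.mem_singleton_iff] at hw
      rcases hw with rfl | rfl | rfl
      · exact hcc
      · exact hbb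
      · calc c * b * (c * b) = c * (b * c) * b := by group
          _ = c * c * (b * b) := by rw [← M.b_c.symm]; group
          _ = 1 := by rw [hcc, hbb, mul_one]
    · rintro _ ⟨w, hw, rfl⟩
      simp only [Set.mem_insert_iff, Set.mem_singleton_iff] at hw
      rcases hw with rfl | rfl | rfl
      · exact h1
      · exact h2
      · rw [map_mul, ← mul_assoc, h1, mul_assoc, h2, ← mul_assoc]
  -- the centraliser of `c`
  have hCc : ∀ g : G, g * φ c = φ c * g → g ∈ φ.range := by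
    intro g hg
    obtain ⟨t, N⟩ := M.node_c
    refine N.centralizer_le hz hφ S (fun w hw => by rw [Set.mem_singleton_iff] at hw; exact hw ▸ hcc) ?_ g ?_
    · rintro u ⟨d, hdc, hd⟩ - g' hg' hgu
      have h1 : Commute g' (φ c) := hg' _ ⟨c, rfl, rfl⟩
      have hdc' : φ d * φ c * (φ d)⁻¹ = φ c := by rw [← map_mul, hdc, map_mul, mul_inv_cancel_right]
      have e1 : Commute (φ d * g' * (φ d)⁻¹) (φ c) := hdc' ▸ h1.map (MulAut.conj (φ d)).toMonoidHom
      have e2 : Commute (φ d * g' * (φ d)⁻¹) (φ b) := by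
        have := (show Commute g' (φ u) from hgu).map (MulAut.conj (φ d)).toMonoidHom
        simp only [MulEquiv.coe_toMonoidHom, MulAut.conj_apply, ← map_inv, ← map_mul] at this
        rw [map_inv] at this
        rcases hd with hd | hd
        · rw [hd] at this; simpa only [map_mul, map_inv] using this
        · rw [hd] at this
          have h3 : Commute (φ d * g' * (φ d)⁻¹) (φ (b * c) * φ c) := by
            refine Commute.mul_right ?_ e1
            simpa only [map_mul, map_inv] using this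
          rwa [← map_mul, show b * c * c = b by rw [mul_assoc, hcc, mul_one]] at h3
      exact range_mem_of_conj (hCB _ e1.eq e2.eq)
    · rintro _ ⟨w, hw, rfl⟩
      rw [Set.mem_singleton_iff] at hw
      exact hw ▸ hg
  have hC' : ∀ u, IsConj c u → ∀ g : G, g * φ u = φ u * g → g ∈ φ.range := by
    intro u hu g hg
    obtain ⟨d, hd⟩ := isConj_iff.1 hu.symm
    refine range_mem_of_conj (x := d) (hCc _ ?_)
    have h1 := (show Commute g (φ u) from hg).map (MulAut.conj (φ d)).toMonoidHom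
    have h2 : φ d * φ u * (φ d)⁻¹ = φ c := by rw [← map_inv, ← map_mul, ← map_mul, hd]
    exact (h2 ▸ h1 : Commute (φ d * g * (φ d)⁻¹) (φ c)).eq
  -- the centraliser of `b`
  have hBb : ∀ g : G, g * φ b = φ b * g → g ∈ φ.range := by
    intro g hg
    obtain ⟨t, N⟩ := M.node_b
    refine N.centralizer_le hz hφ S (fun w hw => by rw [Set.mem_singleton_iff] at hw; exact hw ▸ hbb) ?_ g ?_
    · rintro u hu - g' hg' hgu
      have h1 : Commute g' (φ b) := hg' _ ⟨b, rfl, rfl⟩
      rcases hu with hu | hu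
      · exact hC' u hu g' hgu
      · exact hC' _ hu g' (by rw [map_mul]; exact ((show Commute g' (φ u) from hgu).mul_right h1).eq)
    · rintro _ ⟨w, hw, rfl⟩
      rw [Set.mem_singleton_iff] at hw
      exact hw ▸ hg
  have hB' : ∀ u, IsConj b u → ∀ g : G, g * φ u = φ u * g → g ∈ φ.range := by
    intro u hu g hg
    obtain ⟨d, hd⟩ := isConj_iff.1 hu.symm
    refine range_mem_of_conj (x := d) (hBb _ ?_)
    have h1 := (show Commute g (φ u) from hg).map (MulAut.conj (φ d)).toMonoidHom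
    have h2 : φ d * φ u * (φ d)⁻¹ = φ b := by rw [← map_inv, ← map_mul, ← map_mul, hd]
    exact (h2 ▸ h1 : Commute (φ d * g * (φ d)⁻¹) (φ b)).eq
  refine eq_top_of_pair S ⟨z, rfl⟩ (by rw [← map_mul, hz, map_one]) ⟨b, rfl⟩
    (by rw [← map_mul, hbb, map_one]) hb hBb ?_ ?_
  · rintro _ ⟨u, rfl⟩ hu hcomm
    rw [orderOf_injective φ hφ] at hu
    rw [← map_mul, ← map_mul] at hcomm
    rcases M.cls u (hφ hcomm) hu with e | e | e
    · exact Or.inl (φ.map_isConj e)
    · exact Or.inr (hB' u e)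
    · exact Or.inr (hC' u e)
  · rintro _ ⟨v, rfl⟩ hv2
    have hvv : v * v = 1 := hφ (by rw [map_mul, ← pow_two, hv2, map_one])
    obtain ⟨u, hu, huv⟩ := exists_commute_of_parity hz hvv (D := {u | IsConj z u})
      (fun u hu => hu.trans (isConj_iff.2 ⟨z, rfl⟩)) (fun u hu => hu.trans (isConj_iff.2 ⟨v, rfl⟩)) M.odd
    exact ⟨φ u, ⟨u, rfl⟩, φ.map_isConj hu, by rw [← map_mul, ← map_mul, huv]⟩

end Model

end

end Cfsg.Agent.CoTwoClose
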