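/-
Three labels for the ten classes, given the fusion outside the centraliser (owner: helper72).

* `relP` : seven pairs fused in the group, and the two conjugations of the node of `c`
* `Coded.Labels` : the fusion and the separation of `z`, `b`, `c`
* `Coded.Labels.conj_iff` : conjugacy to `z`, `b`, `c` is read off the label of an entry
-/
import Cfsg.Agent.Lib.CoTwoClose.Classify
import Cfsg.Agent.Lib.CoTwoClose.ClassLists
import Cfsg.Agent.Lib.CoTwoClose.NodeData

set_option autoImplicit false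
set_option maxRecDepth 20000
set_option maxHeartbeats 1000000

namespace Cfsg.Agent.CoTwoClose

/-- The fused pairs, as vector and word. -/
def relP : List ((ℕ × List (Fin 7)) × (ℕ × List (Fin 7))) :=
  ClassData.relW.map fun p => ((p.1.1, p.1.2.map (Fin.ofNat 7)), (p.2.1, p.2.2.map (Fin.ofNat 7)))

/-- The fused pairs, as entries. -/
def relI (n : ℕ) : ℕ × ℕ := ClassData.relIdx.getD n (0, 0)

/-- The label of a class: 0 for `z`, 1 for `b`, 2 for `c`. -/
def lab (k : ℕ) : ℕ := [0, 1, 0, 2, 1, 2, 1, 2, 0, 2].getD k 2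

/-- The label of an entry. -/
def labAt (i : ℕ) : ℕ := lab (clsAt i)

/-- The representative of a label. -/
def labRep (l : ℕ) : ℕ := [0, 1, 3].getD l 0

theorem check_relP : ∀ n < 9, (relP.getD n ((0, []), (0, []))).1.1 < 512 ∧ (relP.getD n ((0, []), (0, []))).2.1 < 512 ∧
    pairC (relP.getD n ((0, []), (0, []))).1 = codeAt (relI n).1 ∧
    pairC (relP.getD n ((0, []), (0, []))).2 = codeAt (relI n).2 ∧ (relI n).1 < nEnt ∧ (relI n).2 < nEnt := by
  decide +kernel

theorem check_relCls : (List.range 9).map (fun n => (clsAt (relI n).1, clsAt (relI n).2)) =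
    [(2, 0), (4, 1), (5, 3), (6, 1), (7, 5), (8, 2), (9, 3), (1, 6), (3, 3)] := by decide +kernel

namespace Coded

variable {T : Type*} [Group T] {z : T} (L : Coded z)

/-- The fusion of the ten classes into three, and their separation. -/
structure Labels : Prop where
  fuse : ∀ p ∈ relP.take 7, IsConj (L.el p.1) (L.el p.2)
  swap : ∃ g, g * L.rep 3 * g⁻¹ = L.rep 3 ∧ g * L.rep 1 * g⁻¹ = L.eltI (relI 7).2
  z_b : ¬ IsConj z (L.rep 1)
  z_c : ¬ IsConj z (L.rep 3)
  b_c : ¬ IsConj (L.rep 1) (L.rep 3)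

theorem el_relP {n : ℕ} (hn : n < 9) :
    L.el (relP.getD n ((0, []), (0, []))).1 = L.eltI (relI n).1 ∧
      L.el (relP.getD n ((0, []), (0, []))).2 = L.eltI (relI n).2 := by
  obtain ⟨h1, h2, h3, h4, h5, h6⟩ := check_relP n hn
  exact ⟨Is.unique L (h3 ▸ Is.el L h1) (L.is_eltI h5), Is.unique L (h4 ▸ Is.el L h2) (L.is_eltI h6)⟩

theorem eltI_rep {i : ℕ} (hi : i < 10) : L.eltI i = L.rep i :=
  Is.unique L (L.is_eltI (hi.trans (by decide))) (Is.rep L hi)

theorem swap_of_pairs {g : T} (h : ∀ p ∈ relP.drop 7, g * L.el p.1 * g⁻¹ = L.el p.2) :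
    ∃ g, g * L.rep 3 * g⁻¹ = L.rep 3 ∧ g * L.rep 1 * g⁻¹ = L.eltI (relI 7).2 := by
  have hm : ∀ n, 7 ≤ n → n < 9 → g * L.eltI (relI n).1 * g⁻¹ = L.eltI (relI n).2 := by
    intro n h7 h9
    obtain ⟨e1, e2⟩ := L.el_relP h9
    rw [← e1, ← e2]
    have hl : relP.length = 9 := rfl
    refine h _ ?_
    rw [List.getD_eq_getElem _ _ (by omega)]
    rw [List.mem_iff_getElem]
    exact ⟨n - 7, by rw [List.length_drop]; omega, by rw [List.getElem_drop]; congr 1; omega⟩
  refine ⟨g, ?_, ?_⟩
  · have := hm 8 (by norm_num) (by norm_num)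
    rwa [show (relI 8).1 = 3 from rfl, show (relI 8).2 = 3 from rfl, L.eltI_rep (by norm_num)] at this
  · have := hm 7 (by norm_num) (by norm_num)
    rwa [show (relI 7).1 = 1 from rfl, L.eltI_rep (by norm_num)] at this

namespace Labels

variable {L} (H : L.Labels)
include H

theorem conj_pair {n : ℕ} (hn : n < 7) {a b : ℕ} (h : (clsAt (relI n).1, clsAt (relI n).2) = (a, b)) :
    IsConj (L.rep a) (L.rep b) := by
  obtain ⟨e1, e2⟩ := L.el_relP (show n < 9 by omega)
  obtain ⟨-, -, -, -, h5, h6⟩ := check_relP n (by omega)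
  have hp : IsConj (L.eltI (relI n).1) (L.eltI (relI n).2) := by
    rw [← e1, ← e2]
    have hl : relP.length = 9 := rfl
    refine H.fuse _ ?_
    rw [List.getD_eq_getElem _ _ (by omega), List.mem_take_iff_getElem]
    exact ⟨n, by omega, rfl⟩
  simp only [Prod.mk.injEq] at h
  rw [← h.1, ← h.2]
  exact ((L.isConj_rep h5 (L.is_eltI h5)).trans hp).trans (L.isConj_rep h6 (L.is_eltI h6)).symm

theorem conj_labRep {k : ℕ} (hk : k < 10) : IsConj (L.rep k) (L.rep (labRep (lab k))) := by
  have e : ∀ (n : ℕ) (hn : n < 7) (p : ℕ × ℕ),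
      ((List.range 9).map fun n => (clsAt (relI n).1, clsAt (relI n).2)).getD n (0, 0) = p →
      IsConj (L.rep p.1) (L.rep p.2) := fun n hn p hp => H.conj_pair hn (by
    rw [List.getD_eq_getElem _ _ (by simp; omega)] at hp
    simpa using hp)
  rw [check_relCls] at e
  interval_cases k
  · exact IsConj.refl _
  · exact IsConj.refl _
  · exact e 0 (by norm_num) _ rfl
  · exact IsConj.refl _
  · exact e 1 (by norm_num) _ rfl
  · exact e 2 (by norm_num) _ rfl
  · exact e 3 (by norm_num) _ rfl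
  · exact (e 4 (by norm_num) _ rfl).trans (e 2 (by norm_num) _ rfl)
  · exact (e 5 (by norm_num) _ rfl).trans (e 0 (by norm_num) _ rfl)
  · exact e 6 (by norm_num) _ rfl

theorem isConj_labRep {i : ℕ} (hi : i < nEnt) {t : T} (ht : L.Is t (codeAt i)) :
    IsConj (L.rep (labRep (labAt i))) t := by
  have hk := (L.exists_isConj_rep hi ht).1
  exact (H.conj_labRep hk).symm.trans (L.isConj_rep hi ht)

theorem lab_unique {a b : ℕ} (ha : a < 3) (hb : b < 3) (h : IsConj (L.rep (labRep a)) (L.rep (labRep b))) :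
    a = b := by
  have h0 : L.rep 0 = z := L.rep_zero
  have r0 : labRep 0 = 0 := rfl
  have r1 : labRep 1 = 1 := rfl
  have r2 : labRep 2 = 3 := rfl
  interval_cases a <;> interval_cases b <;> simp only [r0, r1, r2, h0] at h
  exacts [rfl, absurd h H.z_b, absurd h H.z_c, absurd h.symm H.z_b, rfl, absurd h H.b_c, absurd h.symm H.z_c,
    absurd h.symm H.b_c, rfl]

omit [Group T] H in
theorem labAt_lt (i : ℕ) : labAt i < 3 := by
  rcases lt_or_ge (clsAt i) 10 with q | q
  · rw [labAt]; generalize clsAt i = k at q ⊢; interval_cases k <;> decide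
  · rw [labAt, lab, List.getD_eq_default _ _ (by simpa using q)]; norm_num

/-- Conjugate elements of the table have the same label. -/
theorem lab_eq {i j : ℕ} (hi : i < nEnt) (hj : j < nEnt) {t u : T} (ht : L.Is t (codeAt i))
    (hu : L.Is u (codeAt j)) (h : IsConj t u) : labAt i = labAt j :=
  H.lab_unique (labAt_lt i) (labAt_lt j)
    ((H.isConj_labRep hi ht).trans (h.trans (H.isConj_labRep hj hu).symm))

/-- Conjugacy to the representative of a label. -/
theorem conj_iff {i : ℕ} (hi : i < nEnt) {t : T} (ht : L.Is t (codeAt i)) {l : ℕ} (hl : l < 3) :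
    IsConj (L.rep (labRep l)) t ↔ labAt i = l :=
  ⟨fun h => H.lab_unique (labAt_lt i) hl ((H.isConj_labRep hi ht).trans h.symm),
    fun h => h ▸ H.isConj_labRep hi ht⟩

theorem conj_z_iff {i : ℕ} (hi : i < nEnt) {t : T} (ht : L.Is t (codeAt i)) : IsConj z t ↔ labAt i = 0 := by
  have := H.conj_iff hi ht (l := 0) (by norm_num)
  rwa [show labRep 0 = 0 from rfl, L.rep_zero] at this

end Labels

end Coded

end Cfsg.Agent.CoTwoClose
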