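/-
The finite certificates of the three nodes (owner: helper72).

For the representatives `R` of the classes 3 and 6, the only classes with `z * R` of label 0 and `R` not:
* `check_nodeB`, `check_nodeCB` : over the conjugates of `b` commuting with `R`
* `check_nodeC` : over the conjugates of `c` commuting with `R`
-/
import Cfsg.Agent.Lib.CoTwoClose.Labels

set_option autoImplicit false
set_option maxRecDepth 20000
set_option maxHeartbeats 1000000

namespace Cfsg.Agent.CoTwoClose

/-- The code of the central involution. -/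
def zC : ℕ := vecC 256

/-- The codes commute. -/
def commC (e f : ℕ) : Bool := eqC (mulF e f) (mulF f e)

/-- The codes of the targets of the node of `c`. -/
def targC (t : ℕ) : ℕ := codeAt (ClassData.targIdx.getD t 0)

/-- The entry of `z * R` for the representatives. -/
def zRep (k : ℕ) : ℕ := ClassData.zIdx.getD k 0

/-- A row selected by a list. -/
def scanG {α : Type} (sel : ℕ → Bool) (ok : ℕ → α → Bool) : List ℕ → List α → Bool
  | [], row => row.isEmpty
  | v :: vs, row =>
    bif sel v then
      match row with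
      | [] => false
      | a :: as => ok v a && scanG sel ok vs as
    else scanG sel ok vs row

theorem scanG_sound {α : Type} {sel : ℕ → Bool} {ok : ℕ → α → Bool} : ∀ {vs : List ℕ} {row : List α},
    scanG sel ok vs row = true → ∀ v ∈ vs, sel v = true → ∃ a, ok v a = true
  | [], _, _, v, hv, _ => absurd hv List.not_mem_nil
  | u :: vs, row, h, v, hv, hval => by
    rw [scanG.eq_def] at h
    simp only [] at h
    rcases hb : sel u with _ | _
    · rw [hb, cond_false] at h
      rcases List.mem_cons.1 hv with rfl | hv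
      · rw [hb] at hval; exact absurd hval Bool.false_ne_true
      · exact scanG_sound h v hv hval
    · rw [hb, cond_true] at h
      cases row with
      | nil => exact absurd h Bool.false_ne_true
      | cons a as =>
        simp only [Bool.and_eq_true] at h
        rcases List.mem_cons.1 hv with rfl | hv
        · exact ⟨a, h.1⟩
        · exact scanG_sound h.2 v hv hval

/-- A vector giving a conjugate of `b` that commutes with the representative `k`. -/
def selV (k v : ℕ) : Bool :=
  !Nat.beq v 0 && !Nat.beq v 256 && Nat.beq (qmF v v) 0 && commC (codeAt k) (vecC v)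

/-- A conjugate of `c` commuting with the representative `k`. -/
def selC (k i : ℕ) : Bool := Nat.beq (clsAt i) 3 && commC (codeAt k) (codeAt i)

/-- The entry `j` is `R * e`. -/
def isProd (k e j : ℕ) : Bool := Nat.blt j nEnt && Nat.beq (mulF (codeAt k) e) (codeAt j)

/-- The entry `j` is `z * (R * e)`. -/
def isZProd (k e j : ℕ) : Bool := Nat.blt j nEnt && Nat.beq (mulF zC (mulF (codeAt k) e)) (codeAt j)

/-- The row of the node of `b`. -/
def okB (k v : ℕ) (a : ℕ × ℕ × ℕ) : Bool :=
  Nat.beq a.1 v && (eqC (codeAt k) (vecC v) || (isProd k (vecC v) a.2.1 &&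
    (Nat.beq (labAt a.2.1) 0 || Nat.beq (labAt a.2.1) 2 || (isZProd k (vecC v) a.2.2 && Nat.beq (labAt a.2.2) 0))))

/-- The row of the node of `b` and `c`. -/
def okCB (k v : ℕ) (a : ℕ × ℕ × ℕ) : Bool :=
  Nat.beq a.1 v && (eqC (codeAt k) (vecC v) || (isProd k (vecC v) a.2.1 &&
    (Nat.beq (labAt a.2.1) 0 || (isZProd k (vecC v) a.2.2 && !Nat.beq (labAt a.2.2) 1))))

/-- Conjugation along a path. -/
def walkC (p : List ℕ) (e : ℕ) : ℕ := p.foldl (fun e i => conjG i e) e

/-- The row of the node of `c`. -/
def okC (k i : ℕ) (a : ℕ × ℕ × ℕ × List ℕ × ℕ) : Bool :=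
  Nat.beq a.1 i && (eqC (codeAt k) (codeAt i) || (isProd k (codeAt i) a.2.1 &&
    (Nat.beq (labAt a.2.1) 0 || (isZProd k (codeAt i) a.2.2.1 && Nat.beq (labAt a.2.2.1) 2) ||
      (!Nat.beq a.2.2.2.2 0 && Nat.ble a.2.2.2.2 4 && Nat.beq (walkC a.2.2.2.1 (codeAt i)) (codeAt 3) &&
        Nat.beq (walkC a.2.2.2.1 (codeAt k)) (targC (a.2.2.2.2 - 1))))))

theorem check_nodeB : scanG (selV 6) (okB 6) (List.range 512) ClassData.rowsB6 = true := by decide +kernel

theorem check_nodeCB3 : scanG (selV 3) (okCB 3) (List.range 512) ClassData.rowsB3 = true := by decide +kernel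

theorem check_nodeCB6 : scanG (selV 6) (okCB 6) (List.range 512) ClassData.rowsB6 = true := by decide +kernel

theorem check_nodeC3 : scanG (selC 3) (okC 3) (List.range nList) ClassData.rowsC3 = true := by decide +kernel

theorem check_nodeC6 : scanG (selC 6) (okC 6) (List.range nList) ClassData.rowsC6 = true := by decide +kernel

theorem check_zRep : ∀ k < 10, k ≠ 0 → zRep k < nEnt ∧ mulF zC (codeAt k) = codeAt (zRep k) ∧
    (labAt k = 0 ∨ labAt (zRep k) ≠ 0 ∨ k = 3 ∨ k = 6) := by decide +kernel

theorem check_targ : targC 0 = codeAt 1 ∧ targC 1 = mulF (codeAt 1) (codeAt 3) ∧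
    targC 2 = codeAt (relI 7).2 ∧ targC 3 = mulF (codeAt (relI 7).2) (codeAt 3) := by decide +kernel

end Cfsg.Agent.CoTwoClose
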