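/-
The three nodes and the model facts of the closing step (owner: helper72).

* `Coded.Labels.model` : the coded centraliser with fused labels is a model
* `range_eq_top` : the closing step for the second Conway group
-/
import Cfsg.Agent.Lib.CoTwoClose.NodeScan
import Cfsg.Agent.Lib.CoTwoClose.Main

set_option autoImplicit false
set_option maxRecDepth 20000
set_option maxHeartbeats 1000000

namespace Cfsg.Agent.CoTwoClose

open CoTwoType (qm)
open TransvCent.Closing (Fix)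

/-- The entries of label 0 commuting with all the given ones. -/
def zFix (ws : List ℕ) : List ℕ := zList.filter fun i => ws.all fun w => commC (codeAt i) (codeAt w)

theorem check_odd : (zFix []).length % 2 = 1 ∧ (zFix [1]).length % 2 = 1 ∧ (zFix [3]).length % 2 = 1 ∧
    (zFix [3, 1]).length % 2 = 1 := by decide +kernel

/-- The entries used as second points, with the products. -/
theorem check_pat :
    (mulF zC (codeAt 1) = codeAt 5340 ∧ mulF zC (codeAt 3) = codeAt 2 ∧ mulF (codeAt 1) (codeAt 3) = codeAt 1018 ∧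
      mulF (codeAt 3) (codeAt 1) = codeAt 1018) ∧
    (mulF (codeAt 8) (codeAt 1) = codeAt 5175 ∧ mulF (codeAt 11) (codeAt 3) = codeAt 5340 ∧
      mulF (codeAt 2671) (codeAt 3) = codeAt 8130 ∧ mulF (codeAt 2671) (codeAt 1) = codeAt 8134 ∧
      mulF (codeAt 2671) (codeAt 1018) = codeAt 8135) ∧
    (commC (codeAt 8) (codeAt 1) = true ∧ commC (codeAt 11) (codeAt 3) = true ∧
      commC (codeAt 2671) (codeAt 3) = true ∧ commC (codeAt 2671) (codeAt 1) = true) ∧
    (mulF (codeAt 1) (codeAt 1) = cone ∧ mulF (codeAt 3) (codeAt 3) = cone ∧ eqC (codeAt 1) cone = false ∧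
      eqC (codeAt 3) cone = false ∧ eqC (codeAt 0) cone = false ∧ eqC (codeAt 1) (codeAt 0) = false) ∧
    [labAt 5340, labAt 2, labAt 5175, labAt 8130, labAt 8134, labAt 8135, labAt 8, labAt 11, labAt 2671] =
      [1, 0, 2, 1, 1, 1, 0, 0, 0] ∧ (reps.getD 1 (0, [])) = (2, []) := by decide +kernel

theorem conj_pat {T : Type*} [Group T] {W : Set T} {x z u y w : T} (hx : Fix W x) (hw : w ∈ W)
    (h : x * (z * u) * x⁻¹ = y) : IsConj (z * (u * w)) (y * w) :=
  isConj_iff.2 ⟨x, by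
    calc x * (z * (u * w)) * x⁻¹ = x * (z * u) * (w * x⁻¹) := by group
      _ = x * (z * u) * x⁻¹ * w := by
        rw [(Commute.inv_left (show Commute x w from hx w hw)).eq.symm, ← mul_assoc]
      _ = y * w := by rw [h]⟩

theorem conj_mul_conj {T : Type*} [Group T] (d u w : T) : d * u * d⁻¹ * (d * w * d⁻¹) = d * (u * w) * d⁻¹ := by
  group

namespace Coded

variable {T : Type*} [Group T] {z : T} (L : Coded z)

theorem eqC_iff {t u : T} {e f : ℕ} (ht : L.Is t e) (hu : L.Is u f) : eqC e f = true ↔ t = u := by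
  rw [L.eq_iff ht hu]
  simp only [eqC, Bool.and_eq_true, List.all_eq_true, List.mem_range]
  exact ⟨fun h => ⟨Nat.eq_of_beq_eq_true h.1, fun S hS => Nat.eq_of_beq_eq_true (h.2 S hS)⟩,
    fun h => ⟨by rw [h.1]; exact Nat.beq_refl _, fun S hS => by rw [h.2 S hS]; exact Nat.beq_refl _⟩⟩

theorem commC_iff {t u : T} {e f : ℕ} (ht : L.Is t e) (hu : L.Is u f) : commC e f = true ↔ t * u = u * t := by
  rw [commC, mulF_eq, mulF_eq]
  exact L.eqC_iff (Is.mul L ht hu) (Is.mul L hu ht)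

theorem is_mulF {t u : T} {e f g : ℕ} (ht : L.Is t e) (hu : L.Is u f) (h : mulF e f = g) : L.Is (t * u) g := by
  rw [← h, mulF_eq]
  exact Is.mul L ht hu

theorem conj_vec {d : T} (hd : d * z = z * d) {v : ℕ} (hv : v < 512) : ∃ w < 512, d * L.x v * d⁻¹ = L.x w := by
  obtain ⟨g, a, ha, rfl⟩ := L.exists_code hd
  obtain ⟨b, hb, e⟩ := L.conj_x g v hv
  obtain ⟨q, hq, hqi⟩ := exists_inv ha
  refine ⟨qm (qm a b) q, qm_lt (qm_lt ha hb) hq, ?_⟩
  rw [show L.x a * L.psi g * L.x v * (L.x a * L.psi g)⁻¹ = L.x a * (L.psi g * L.x v * (L.psi g)⁻¹) * (L.x a)⁻¹ by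
    group, e, L.x_mul a ha b hb, inv_eq_of_mul_eq_one_right (b := L.x q) (by rw [L.x_mul a ha q hq, hqi, L.x_zero]),
    L.x_mul _ (qm_lt ha hb) q hq]

/-- The product of the generators along a path. -/
noncomputable def walkT : List ℕ → T
  | [] => 1
  | i :: p => walkT p * L.gen8 i

theorem Is.walk : ∀ (p : List ℕ) {t : T} {e : ℕ}, L.Is t e → L.Is (L.walkT p * t * (L.walkT p)⁻¹) (walkC p e)
  | [], t, e, h => by simpa [Coded.walkT, walkC] using h
  | i :: p, t, e, h => by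
    have := Is.walk p (Is.conjG L i h)
    rw [Coded.walkT, show L.walkT p * L.gen8 i * t * (L.walkT p * L.gen8 i)⁻¹ =
      L.walkT p * (L.gen8 i * t * (L.gen8 i)⁻¹) * (L.walkT p)⁻¹ by group, L.gen8_inv]
    exact this

theorem rep_one : L.rep 1 = L.x 2 := by
  rw [rep, check_pat.2.2.2.2.2]
  show L.x 2 * (([] : List (Fin 7)).map L.h).prod = _
  rw [List.map_nil, List.prod_nil, mul_one]

theorem rep_comm {k : ℕ} (hk : k < 10) : L.rep k * z = z * L.rep k := L.is_comm (Is.rep L hk)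

namespace Labels

variable {L} (H : L.Labels)
include H

theorem zset_eq {W : Set T} {ws : List ℕ}
    (hp : ∀ i < nEnt, (ws.all fun w => commC (codeAt i) (codeAt w)) = true ↔ Fix W (L.eltI i)) :
    {v | (IsConj z v ∧ Fix W v) ∧ v * z = z * v}.ncard = (zFix ws).length := by
  classical
  have hz : ∀ i ∈ zList, i < nList ∧ isZ (clsAt i) = true := fun i hi => by
    have h := List.all_eq_true.1 check_zList i hi
    simp only [Bool.and_eq_true] at h
    exact ⟨Nat.le_of_ble_eq_true h.1, h.2⟩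
  have hlt : ∀ i ∈ zList, i < nEnt := fun i hi => (hz i hi).1.trans (by decide)
  have hlab : ∀ i ∈ zList, labAt i = 0 := fun i hi => by
    have h := (hz i hi).2
    rw [labAt]
    simp only [isZ, Bool.or_eq_true] at h
    rcases h with (h | h) | h <;> rw [Nat.eq_of_beq_eq_true h] <;> rfl
  have hset : {v | (IsConj z v ∧ Fix W v) ∧ v * z = z * v} = ↑((zFix ws).map L.eltI).toFinset := by
    ext v
    simp only [Set.mem_ofPred_eq, List.coe_toFinset, List.mem_map, zFix, List.mem_filter]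
    constructor
    · rintro ⟨⟨hc, hW⟩, hv⟩
      obtain ⟨g, hg⟩ := isConj_iff.1 hc
      have h2 : v * v = 1 := by
        rw [← hg, show g * z * g⁻¹ * (g * z * g⁻¹) = g * (z * z) * g⁻¹ by group, L.z_sq, mul_one, mul_inv_cancel]
      have h1 : v ≠ 1 := fun e => by
        have : z = 1 := by simpa using (mul_inv_eq_one.1 (hg.trans e))
        have e0 : L.x 256 = L.x 0 := by rw [L.x_z, L.x_zero, this]
        exact absurd (L.x_inj _ (by norm_num) _ (by norm_num) e0) (by norm_num)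
      obtain ⟨k, hk, d, hd, he⟩ := L.classify hv h2 h1
      have hk0 : labAt k = 0 := (H.conj_z_iff (hk.trans (by decide)) (Is.rep L hk)).1
        (hc.trans (isConj_iff.2 ⟨d, he⟩))
      rw [labAt, (check_reps k hk).2.1] at hk0
      have hkZ : isZ k = true ∧ isList k = true := by
        revert hk0
        interval_cases k <;> decide
      obtain ⟨i, hi, hcl, hIs⟩ := L.mem_lists hk hkZ.2 (d := d⁻¹)
        ((show Commute d z from hd).inv_left.eq)
      have hiZ : i ∈ zList := mem_zList hi (by rw [hcl]; exact hkZ.1)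
      rw [inv_inv, show d⁻¹ * L.rep k * d = v by rw [← he]; group] at hIs
      have hve : L.eltI i = v := Is.unique L (L.is_eltI (hlt i hiZ)) hIs
      exact ⟨i, ⟨hiZ, (hp i (hlt i hiZ)).2 (hve.symm ▸ hW)⟩, hve⟩
    · rintro ⟨i, ⟨hi, hW⟩, rfl⟩
      exact ⟨⟨(H.conj_z_iff (hlt i hi) (L.is_eltI (hlt i hi))).2 (hlab i hi), (hp i (hlt i hi)).1 hW⟩,
        L.is_comm (L.is_eltI (hlt i hi))⟩
  rw [hset, Set.ncard_coe_finset, List.toFinset_card_of_nodup, List.length_map]
  refine List.pairwise_map.2 (((sortedC_pairwise check_sorted).filter _).imp_of_mem ?_)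
  intro i j hi hj hij he
  exact absurd (L.eltI_inj (hlt i (List.mem_filter.1 hi).1) (hlt j (List.mem_filter.1 hj).1) he) (ne_of_lt hij)

theorem pat {i : ℕ} (hi : i < nEnt) {t w : T} {j : ℕ} (hj : j < nEnt) (ht : L.Is t (codeAt i))
    (hw : L.Is w (codeAt j)) (h : IsConj t w) : labAt i = labAt j := H.lab_eq hi hj ht hw h

theorem conj_z_rep {k : ℕ} (hk : k < 10) (hlab : labAt k ≠ 0) {y : T} (h : IsConj (z * L.rep k) y)
    (hy : IsConj z y) : k = 3 ∨ k = 6 := by
  have hk0 : k ≠ 0 := by rintro rfl; exact hlab (by decide +kernel)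
  obtain ⟨h1, h2, h3⟩ := check_zRep k hk hk0
  have h0 : labAt (zRep k) = 0 := (H.conj_z_iff h1 (L.is_mulF (Is.zC L) (Is.rep L hk) h2)).1 (hy.trans h.symm)
  rcases h3 with h3 | h3 | h3
  · exact absurd h3 hlab
  · exact absurd h0 h3
  · exact h3

/-- The first step at a node: an exception is conjugate to the representative 3 or 6. -/
theorem bad_class {W : Set T} {u t : T} (hu : u * z = z * u) (h2 : orderOf u = 2) (ht : IsConj z t)
    (hx : ∃ x, Fix W x ∧ (x * (z * u) * x⁻¹ = z ∨ x * (z * u) * x⁻¹ = t)) :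
    IsConj z u ∨ ∃ k, (k = 3 ∨ k = 6) ∧ ∃ d, d * z = z * d ∧ d * u * d⁻¹ = L.rep k := by
  have huu : u * u = 1 := by rw [← pow_two, ← h2, pow_orderOf_eq_one]
  obtain ⟨k, hk, d, hd, he⟩ := L.classify hu huu (fun e => by rw [e, orderOf_one] at h2; norm_num at h2)
  have hzd : z * L.rep k = d * (z * u) * d⁻¹ := by
    rw [← he]
    calc z * (d * u * d⁻¹) = z * d * (u * d⁻¹) := by group
      _ = d * (z * u) * d⁻¹ := by rw [← hd]; group
  by_cases hlab : labAt k = 0
  · exact Or.inl (((H.conj_z_iff (hk.trans (by decide)) (Is.rep L hk)).2 hlab).trans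
      (isConj_iff.2 ⟨d, he⟩).symm)
  refine Or.inr ⟨k, ?_, d, hd, he⟩
  obtain ⟨x, -, hx⟩ := hx
  refine H.conj_z_rep hk hlab (y := x * (z * u) * x⁻¹) ?_ ?_
  · exact (isConj_iff.2 ⟨d, hzd.symm⟩ : IsConj (z * u) (z * L.rep k)).symm.trans (isConj_iff.2 ⟨x, rfl⟩)
  · rcases hx with e | e <;> rw [e]
    exact ht

/-- A conjugate of `b` under the centraliser of `z`, as a row of the nodes. -/
theorem bvec {d : T} (hd : d * z = z * d) {k : ℕ} (hk : k < 10) {u : T} (he : d * u * d⁻¹ = L.rep k)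
    (hub : u * L.rep 1 = L.rep 1 * u) :
    ∃ w < 512, L.Is (d * L.rep 1 * d⁻¹) (vecC w) ∧ selV k w = true := by
  obtain ⟨w, hw, e⟩ := L.conj_vec hd (show (2 : ℕ) < 512 by norm_num)
  rw [← L.rep_one] at e
  have hI : L.Is (d * L.rep 1 * d⁻¹) (vecC w) := e ▸ Is.vec L hw
  refine ⟨w, hw, hI, ?_⟩
  have hsq : L.x w * L.x w = 1 := by
    rw [← e, conj_mul_conj, L.rep_one, L.x_mul 2 (by norm_num) 2 (by norm_num), show qm 2 2 = 0 by rfl, L.x_zero,
      mul_one, mul_inv_cancel]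
  have h0 : w ≠ 0 := by
    rintro rfl
    rw [L.x_zero, conj_eq_one_iff, L.rep_one, ← L.x_zero] at e
    exact absurd (L.x_inj _ (by norm_num) _ (by norm_num) e) (by norm_num)
  have h256 : w ≠ 256 := by
    rintro rfl
    rw [L.x_z, mul_inv_eq_iff_eq_mul, ← hd, mul_right_inj, L.rep_one] at e
    exact absurd (L.x_inj _ (by norm_num) _ (by norm_num) (e.trans L.x_z.symm)) (by norm_num)
  have hq : qm w w = 0 := L.x_inj _ (qm_lt hw hw) _ (by norm_num) (by rw [← L.x_mul w hw w hw, hsq, L.x_zero])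
  have hc : commC (codeAt k) (vecC w) = true := by
    refine (L.commC_iff (Is.rep L hk) hI).2 ?_
    rw [← he, conj_mul_conj, conj_mul_conj, hub]
  simp only [selV, Bool.and_eq_true, Bool.not_eq_true', qmF_eq, hq, hc]
  exact ⟨⟨⟨Bool.eq_false_iff.2 fun h => h0 (Nat.eq_of_beq_eq_true h),
    Bool.eq_false_iff.2 fun h => h256 (Nat.eq_of_beq_eq_true h)⟩, rfl⟩, trivial⟩

theorem node_b : ∃ t, Node z ({L.rep 1} : Set T) t fun u =>
    IsConj (L.rep 3) u ∨ IsConj (L.rep 3) (u * L.rep 1) := by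
  obtain ⟨⟨p1, p2, p3, p4⟩, ⟨q1, -⟩, ⟨c1, -⟩, -, hl, -⟩ := check_pat
  simp only [List.cons.injEq, and_true] at hl
  have It : L.Is (L.eltI 8) (codeAt 8) := L.is_eltI (by decide)
  have Ib : L.Is (L.rep 1) (codeAt 1) := Is.rep L (by norm_num)
  have Izb : L.Is (z * L.rep 1) (codeAt 5340) := L.is_mulF (Is.zC L) Ib p1
  have Itb : L.Is (L.eltI 8 * L.rep 1) (codeAt 5175) := L.is_mulF It Ib q1
  have htz : IsConj z (L.eltI 8) := (H.conj_z_iff (by decide) It).2 hl.2.2.2.2.2.2.1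
  refine ⟨L.eltI 8, ⟨?_, htz, ?_, ?_, ?_, ?_, ?_⟩⟩
  · intro w hw; rw [Set.mem_singleton_iff] at hw; exact hw ▸ (L.rep_comm (by norm_num)).symm
  · intro w hw; rw [Set.mem_singleton_iff] at hw; exact hw ▸ (L.commC_iff It Ib).1 c1
  · rw [H.zset_eq (ws := [1]) fun i hi => ?_]
    · exact Nat.odd_iff.2 check_odd.2.1
    · simp only [List.all_cons, List.all_nil, Bool.and_true, L.commC_iff (L.is_eltI hi) (L.is_eltI (i := 1) (by decide)),
        L.eltI_rep (show 1 < 10 by norm_num)]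
      exact ⟨fun h w hw => by rw [Set.mem_singleton_iff] at hw; exact hw ▸ h, fun h => h _ rfl⟩
  · intro h hF e
    have := H.pat (by decide) (by decide) Izb Itb (isConj_iff.2 ⟨h, by
      rw [← conj_mul_conj, e, (show Commute h (L.rep 1) from hF _ rfl).eq, mul_inv_cancel_right]⟩)
    omega
  · intro w hw _
    rw [Set.mem_singleton_iff] at hw; subst hw
    refine ⟨fun h hF => Or.inr fun h' _ e => ?_, fun h hF => Or.inl fun e => ?_⟩
    · exact absurd ((H.conj_z_iff (by decide) Itb).1 (htz.trans (isConj_iff.2 ⟨h', e⟩))) (by omega)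
    · exact absurd ((H.conj_z_iff (by decide) Itb).1 (isConj_iff.2 ⟨h, e⟩)) (by omega)
  · intro u hu hF h2 hx
    rcases H.bad_class hu h2 htz hx with e | ⟨k, hk, d, hd, he⟩
    · exact Or.inr (Or.inl e)
    rcases hk with rfl | rfl
    · exact Or.inr (Or.inr (Or.inr (Or.inl (isConj_iff.2 ⟨d, he⟩).symm)))
    obtain ⟨w, hw, hI, hsel⟩ := H.bvec hd (by norm_num) he (hF _ rfl)
    obtain ⟨⟨a, j, j'⟩, ha⟩ := scanG_sound check_nodeB w (List.mem_range.2 hw) hsel
    simp only [okB, isProd, isZProd, Bool.and_eq_true, Bool.or_eq_true] at ha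
    rcases ha.2 with e | ⟨⟨hj, hjc⟩, hcase⟩
    · refine Or.inl (((MulAut.conj d).injective ?_ : u = L.rep 1) ▸ rfl)
      exact he.trans ((L.eqC_iff (Is.rep L (by norm_num)) hI).1 e)
    have Iub : L.Is (d * (u * L.rep 1) * d⁻¹) (codeAt j) := by
      rw [← conj_mul_conj, he]; exact L.is_mulF (Is.rep L (by norm_num)) hI (Nat.eq_of_beq_eq_true hjc)
    have hconj : IsConj (u * L.rep 1) (d * (u * L.rep 1) * d⁻¹) := isConj_iff.2 ⟨d, rfl⟩
    rcases hcase with (e | e) | ⟨⟨hj', hjc'⟩, e⟩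
    · exact Or.inr (Or.inr (Or.inl ⟨_, rfl,
        ((H.conj_z_iff (Nat.le_of_ble_eq_true hj) Iub).2 (Nat.eq_of_beq_eq_true e)).trans hconj.symm⟩))
    · exact Or.inr (Or.inr (Or.inr (Or.inr
        ((((H.conj_iff (Nat.le_of_ble_eq_true hj) Iub (l := 2) (by norm_num)).2 (Nat.eq_of_beq_eq_true e))).trans
          hconj.symm))))
    exfalso
    have Iz : L.Is (z * (d * (u * L.rep 1) * d⁻¹)) (codeAt j') := by
      refine L.is_mulF (Is.zC L) ?_ (Nat.eq_of_beq_eq_true hjc')
      rw [← conj_mul_conj, he, mulF_eq]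
      exact Is.mul L (Is.rep L (by norm_num)) hI
    have hzc : IsConj (z * (u * L.rep 1)) (z * (d * (u * L.rep 1) * d⁻¹)) := isConj_iff.2 ⟨d, by
      calc d * (z * (u * L.rep 1)) * d⁻¹ = d * z * (u * L.rep 1 * d⁻¹) := by group
        _ = z * (d * (u * L.rep 1) * d⁻¹) := by rw [hd]; group⟩
    obtain ⟨x, hxF, hxe⟩ := hx
    have e0 := Nat.eq_of_beq_eq_true e
    have hj'' : j' < nEnt := Nat.le_of_ble_eq_true hj'
    rcases hxe with e' | e'
    · have := H.pat hj'' (by decide) Iz Izb (hzc.symm.trans (conj_pat hxF rfl e'))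
      omega
    · have := H.pat hj'' (by decide) Iz Itb (hzc.symm.trans (conj_pat hxF rfl e'))
      omega

theorem node_cb : ∃ t, Node z ({L.rep 3, L.rep 1, L.rep 3 * L.rep 1} : Set T) t fun _ => False := by
  obtain ⟨⟨p1, p2, p3, p4⟩, ⟨-, -, q3, q4, q5⟩, ⟨-, -, c3, c4⟩, -, hl, -⟩ := check_pat
  simp only [List.cons.injEq, and_true] at hl
  have It : L.Is (L.eltI 2671) (codeAt 2671) := L.is_eltI (by decide)
  have Ib : L.Is (L.rep 1) (codeAt 1) := Is.rep L (by norm_num)
  have Ic : L.Is (L.rep 3) (codeAt 3) := Is.rep L (by norm_num)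
  have Icb : L.Is (L.rep 3 * L.rep 1) (codeAt 1018) := L.is_mulF Ic Ib p4
  have Izb : L.Is (z * L.rep 1) (codeAt 5340) := L.is_mulF (Is.zC L) Ib p1
  have Izc : L.Is (z * L.rep 3) (codeAt 2) := L.is_mulF (Is.zC L) Ic p2
  have Itc : L.Is (L.eltI 2671 * L.rep 3) (codeAt 8130) := L.is_mulF It Ic q3
  have Itb : L.Is (L.eltI 2671 * L.rep 1) (codeAt 8134) := L.is_mulF It Ib q4
  have Itcb : L.Is (L.eltI 2671 * (L.rep 3 * L.rep 1)) (codeAt 8135) := L.is_mulF It Icb q5
  have htz : IsConj z (L.eltI 2671) := (H.conj_z_iff (by decide) It).2 hl.2.2.2.2.2.2.2.2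
  have hfix : ∀ y : T, y * L.rep 3 = L.rep 3 * y → y * L.rep 1 = L.rep 1 * y →
      Fix ({L.rep 3, L.rep 1, L.rep 3 * L.rep 1} : Set T) y := by
    intro y h1 h2 w hw
    simp only [Set.mem_insert_iff, Set.mem_singleton_iff] at hw
    rcases hw with rfl | rfl | rfl
    · exact h1
    · exact h2
    · exact (Commute.mul_right h1 h2 : Commute y (L.rep 3 * L.rep 1)).eq
  refine ⟨L.eltI 2671, ⟨?_, htz, ?_, ?_, ?_, ?_, ?_⟩⟩
  · exact hfix z (L.rep_comm (by norm_num)).symm (L.rep_comm (by norm_num)).symm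
  · exact hfix _ ((L.commC_iff It Ic).1 c3) ((L.commC_iff It Ib).1 c4)
  · rw [H.zset_eq (ws := [3, 1]) fun i hi => ?_]
    · exact Nat.odd_iff.2 check_odd.2.2.2
    · simp only [List.all_cons, List.all_nil, Bool.and_true, Bool.and_eq_true,
        L.commC_iff (L.is_eltI hi) (L.is_eltI (i := 1) (by decide)),
        L.commC_iff (L.is_eltI hi) (L.is_eltI (i := 3) (by decide)),
        L.eltI_rep (show 1 < 10 by norm_num), L.eltI_rep (show 3 < 10 by norm_num)]
      exact ⟨fun h => hfix _ h.1 h.2, fun h => ⟨h _ (by simp), h _ (by simp)⟩⟩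
  · intro h hF e
    have := H.pat (by decide) (by decide) Izc Itc (isConj_iff.2 ⟨h, by
      rw [← conj_mul_conj, e, (show Commute h (L.rep 3) from hF _ (by simp)).eq, mul_inv_cancel_right]⟩)
    omega
  · intro w hw _
    have key : ∀ {i : ℕ} {w : T}, i < nEnt → L.Is (L.eltI 2671 * w) (codeAt i) → labAt i ≠ 0 →
        (∀ h, Fix ({L.rep 3, L.rep 1, L.rep 3 * L.rep 1} : Set T) h → h * z * h⁻¹ ≠ z * w ∨
          ∀ h', Fix ({L.rep 3, L.rep 1, L.rep 3 * L.rep 1} : Set T) h' →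
            h' * L.eltI 2671 * h'⁻¹ ≠ L.eltI 2671 * w) ∧
        ∀ h, Fix ({L.rep 3, L.rep 1, L.rep 3 * L.rep 1} : Set T) h → h * z * h⁻¹ ≠ L.eltI 2671 * w ∨
          h * (z * w) * h⁻¹ ≠ L.eltI 2671 := fun {i w} hi hI hne =>
      ⟨fun h _ => Or.inr fun h' _ e => hne ((H.conj_z_iff hi hI).1 (htz.trans (isConj_iff.2 ⟨h', e⟩))),
        fun h _ => Or.inl fun e => hne ((H.conj_z_iff hi hI).1 (isConj_iff.2 ⟨h, e⟩))⟩
    simp only [Set.mem_insert_iff, Set.mem_singleton_iff] at hw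
    rcases hw with rfl | rfl | rfl
    · exact key (by decide) Itc (by omega)
    · exact key (by decide) Itb (by omega)
    · exact key (by decide) Itcb (by omega)
  · intro u hu hF h2 hx
    rcases H.bad_class hu h2 htz hx with e | ⟨k, hk, d, hd, he⟩
    · exact Or.inr (Or.inl e)
    have hk' : k < 10 := by omega
    obtain ⟨w, hw, hI, hsel⟩ := H.bvec hd hk' he (hF _ (by simp))
    obtain ⟨⟨a, j, j'⟩, ha⟩ : ∃ a, okCB k w a = true := by
      rcases hk with rfl | rfl
      · exact scanG_sound check_nodeCB3 w (List.mem_range.2 hw) hsel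
      · exact scanG_sound check_nodeCB6 w (List.mem_range.2 hw) hsel
    simp only [okCB, isProd, isZProd, Bool.and_eq_true, Bool.or_eq_true] at ha
    rcases ha.2 with e | ⟨⟨hj, hjc⟩, hcase⟩
    · refine Or.inl (((MulAut.conj d).injective ?_ : u = L.rep 1) ▸ by simp)
      exact he.trans ((L.eqC_iff (Is.rep L hk') hI).1 e)
    have Iub : L.Is (d * (u * L.rep 1) * d⁻¹) (codeAt j) := by
      rw [← conj_mul_conj, he]; exact L.is_mulF (Is.rep L hk') hI (Nat.eq_of_beq_eq_true hjc)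
    have hconj : IsConj (u * L.rep 1) (d * (u * L.rep 1) * d⁻¹) := isConj_iff.2 ⟨d, rfl⟩
    rcases hcase with e | ⟨⟨hj', hjc'⟩, e⟩
    · exact Or.inr (Or.inr (Or.inl ⟨L.rep 1, by simp,
        ((H.conj_z_iff (Nat.le_of_ble_eq_true hj) Iub).2 (Nat.eq_of_beq_eq_true e)).trans hconj.symm⟩))
    exfalso
    have Iz : L.Is (z * (d * (u * L.rep 1) * d⁻¹)) (codeAt j') := by
      refine L.is_mulF (Is.zC L) ?_ (Nat.eq_of_beq_eq_true hjc')
      rw [← conj_mul_conj, he, mulF_eq]
      exact Is.mul L (Is.rep L hk') hI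
    have hzc : IsConj (z * (u * L.rep 1)) (z * (d * (u * L.rep 1) * d⁻¹)) := isConj_iff.2 ⟨d, by
      calc d * (z * (u * L.rep 1)) * d⁻¹ = d * z * (u * L.rep 1 * d⁻¹) := by group
        _ = z * (d * (u * L.rep 1) * d⁻¹) := by rw [hd]; group⟩
    obtain ⟨x, hxF, hxe⟩ := hx
    have hj'' : j' < nEnt := Nat.le_of_ble_eq_true hj'
    rw [Bool.not_eq_true'] at e
    rcases hxe with e' | e'
    · have := H.pat hj'' (by decide) Iz Izb (hzc.symm.trans (conj_pat hxF (by simp) e'))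
      rw [this, hl.1] at e
      exact absurd e (by decide)
    · have := H.pat hj'' (by decide) Iz Itb (hzc.symm.trans (conj_pat hxF (by simp) e'))
      rw [this, hl.2.2.2.2.1] at e
      exact absurd e (by decide)

theorem node_c : ∃ t, Node z ({L.rep 3} : Set T) t fun u =>
    ∃ d, d * L.rep 3 = L.rep 3 * d ∧ (d * u * d⁻¹ = L.rep 1 ∨ d * u * d⁻¹ = L.rep 1 * L.rep 3) := by
  obtain ⟨⟨p1, p2, p3, p4⟩, ⟨-, q2, -⟩, ⟨-, c2, -⟩, -, hl, -⟩ := check_pat
  simp only [List.cons.injEq, and_true] at hl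
  have It : L.Is (L.eltI 11) (codeAt 11) := L.is_eltI (by decide)
  have Ib : L.Is (L.rep 1) (codeAt 1) := Is.rep L (by norm_num)
  have Ic : L.Is (L.rep 3) (codeAt 3) := Is.rep L (by norm_num)
  have Izc : L.Is (z * L.rep 3) (codeAt 2) := L.is_mulF (Is.zC L) Ic p2
  have Itc : L.Is (L.eltI 11 * L.rep 3) (codeAt 5340) := L.is_mulF It Ic q2
  have htz : IsConj z (L.eltI 11) := (H.conj_z_iff (by decide) It).2 hl.2.2.2.2.2.2.2.1
  refine ⟨L.eltI 11, ⟨?_, htz, ?_, ?_, ?_, ?_, ?_⟩⟩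
  · intro w hw; rw [Set.mem_singleton_iff] at hw; exact hw ▸ (L.rep_comm (by norm_num)).symm
  · intro w hw; rw [Set.mem_singleton_iff] at hw; exact hw ▸ (L.commC_iff It Ic).1 c2
  · rw [H.zset_eq (ws := [3]) fun i hi => ?_]
    · exact Nat.odd_iff.2 check_odd.2.2.1
    · simp only [List.all_cons, List.all_nil, Bool.and_true, L.commC_iff (L.is_eltI hi) (L.is_eltI (i := 3) (by decide)),
        L.eltI_rep (show 3 < 10 by norm_num)]
      exact ⟨fun h w hw => by rw [Set.mem_singleton_iff] at hw; exact hw ▸ h, fun h => h _ rfl⟩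
  · intro h hF e
    have := H.pat (by decide) (by decide) Izc Itc (isConj_iff.2 ⟨h, by
      rw [← conj_mul_conj, e, (show Commute h (L.rep 3) from hF _ rfl).eq, mul_inv_cancel_right]⟩)
    omega
  · intro w hw _
    rw [Set.mem_singleton_iff] at hw; subst hw
    refine ⟨fun h hF => Or.inr fun h' _ e => ?_, fun h hF => Or.inl fun e => ?_⟩
    · exact absurd ((H.conj_z_iff (by decide) Itc).1 (htz.trans (isConj_iff.2 ⟨h', e⟩))) (by omega)
    · exact absurd ((H.conj_z_iff (by decide) Itc).1 (isConj_iff.2 ⟨h, e⟩)) (by omega)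
  · intro u hu hF h2 hx
    rcases H.bad_class hu h2 htz hx with e | ⟨k, hk, d, hd, he⟩
    · exact Or.inr (Or.inl e)
    have hk' : k < 10 := by omega
    obtain ⟨i, hi, hci, hI⟩ := L.mem_lists (k := 3) (by norm_num) (by decide) hd
    have hsel : selC k i = true := by
      simp only [selC, Bool.and_eq_true]
      refine ⟨by rw [hci]; exact Nat.beq_refl _, (L.commC_iff (Is.rep L hk') hI).2 ?_⟩
      rw [← he, conj_mul_conj, conj_mul_conj, hF _ rfl]
    obtain ⟨⟨a, j, j', p, n⟩, ha⟩ : ∃ a, okC k i a = true := by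
      rcases hk with rfl | rfl
      · exact scanG_sound check_nodeC3 i (List.mem_range.2 hi) hsel
      · exact scanG_sound check_nodeC6 i (List.mem_range.2 hi) hsel
    simp only [okC, isProd, isZProd, Bool.and_eq_true, Bool.or_eq_true] at ha
    rcases ha.2 with e | ⟨⟨hj, hjc⟩, hcase⟩
    · refine Or.inl (((MulAut.conj d).injective ?_ : u = L.rep 3) ▸ rfl)
      exact he.trans ((L.eqC_iff (Is.rep L hk') hI).1 e)
    have Iuc : L.Is (d * (u * L.rep 3) * d⁻¹) (codeAt j) := by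
      rw [← conj_mul_conj, he]; exact L.is_mulF (Is.rep L hk') hI (Nat.eq_of_beq_eq_true hjc)
    have hconj : IsConj (u * L.rep 3) (d * (u * L.rep 3) * d⁻¹) := isConj_iff.2 ⟨d, rfl⟩
    rcases hcase with (e | ⟨⟨hj', hjc'⟩, e⟩) | ⟨⟨⟨hn0, hn4⟩, hpc⟩, hpr⟩
    · exact Or.inr (Or.inr (Or.inl ⟨_, rfl,
        ((H.conj_z_iff (Nat.le_of_ble_eq_true hj) Iuc).2 (Nat.eq_of_beq_eq_true e)).trans hconj.symm⟩))
    · exfalso
      have Iz : L.Is (z * (d * (u * L.rep 3) * d⁻¹)) (codeAt j') := by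
        refine L.is_mulF (Is.zC L) ?_ (Nat.eq_of_beq_eq_true hjc')
        rw [← conj_mul_conj, he, mulF_eq]
        exact Is.mul L (Is.rep L hk') hI
      have hzc : IsConj (z * (u * L.rep 3)) (z * (d * (u * L.rep 3) * d⁻¹)) := isConj_iff.2 ⟨d, by
        calc d * (z * (u * L.rep 3)) * d⁻¹ = d * z * (u * L.rep 3 * d⁻¹) := by group
          _ = z * (d * (u * L.rep 3) * d⁻¹) := by rw [hd]; group⟩
      obtain ⟨x, hxF, hxe⟩ := hx
      have e0 := Nat.eq_of_beq_eq_true e
      have hj'' : j' < nEnt := Nat.le_of_ble_eq_true hj'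
      rcases hxe with e' | e'
      · have := H.pat hj'' (by decide) Iz Izc (hzc.symm.trans (conj_pat hxF rfl e'))
        omega
      · have := H.pat hj'' (by decide) Iz Itc (hzc.symm.trans (conj_pat hxF rfl e'))
        omega
    · refine Or.inr (Or.inr (Or.inr ?_))
      set m := L.walkT p with hm
      have h3 : m * d * L.rep 3 * (m * d)⁻¹ = L.rep 3 := by
        have := Is.walk L p hI
        rw [Nat.eq_of_beq_eq_true hpc, ← hm] at this
        calc m * d * L.rep 3 * (m * d)⁻¹ = m * (d * L.rep 3 * d⁻¹) * m⁻¹ := by group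
          _ = L.rep 3 := Is.unique L this Ic
      have hIu : L.Is (m * d * u * (m * d)⁻¹) (targC (n - 1)) := by
        have := Is.walk L p (Is.rep L hk')
        rw [Nat.eq_of_beq_eq_true hpr, ← hm, ← he] at this
        convert this using 1; group
      obtain ⟨g, g3, g1⟩ := H.swap
      have Ib6 : L.Is (L.eltI (relI 7).2) (codeAt (relI 7).2) := L.is_eltI (by decide)
      obtain ⟨t0, t1, t2, t3⟩ := check_targ
      have hn : n ≤ 4 := Nat.le_of_ble_eq_true hn4
      have hn' : n ≠ 0 := fun e => by subst e; exact absurd hn0 (by decide)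
      have hg3 : g⁻¹ * L.rep 3 * g = L.rep 3 := by
        calc g⁻¹ * L.rep 3 * g = g⁻¹ * (g * L.rep 3 * g⁻¹) * g := by rw [g3]
          _ = L.rep 3 := by group
      have hg1 : g⁻¹ * L.eltI (relI 7).2 * g = L.rep 1 := by rw [← g1]; group
      interval_cases n <;> simp only [Nat.reduceSub] at hIu
      · exact absurd rfl hn'
      · rw [t0] at hIu
        exact ⟨m * d, mul_inv_eq_iff_eq_mul.1 h3, Or.inl (Is.unique L hIu Ib)⟩
      · exact ⟨m * d, mul_inv_eq_iff_eq_mul.1 h3, Or.inr (Is.unique L hIu (L.is_mulF Ib Ic t1.symm))⟩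
      · rw [t2] at hIu
        refine ⟨g⁻¹ * (m * d), mul_inv_eq_iff_eq_mul.1 ?_, Or.inl ?_⟩
        · rw [show g⁻¹ * (m * d) * L.rep 3 * (g⁻¹ * (m * d))⁻¹ = g⁻¹ * (m * d * L.rep 3 * (m * d)⁻¹) * g by group,
            h3, hg3]
        · rw [show g⁻¹ * (m * d) * u * (g⁻¹ * (m * d))⁻¹ = g⁻¹ * (m * d * u * (m * d)⁻¹) * g by group,
            Is.unique L hIu Ib6, hg1]
      · refine ⟨g⁻¹ * (m * d), mul_inv_eq_iff_eq_mul.1 ?_, Or.inr ?_⟩
        · rw [show g⁻¹ * (m * d) * L.rep 3 * (g⁻¹ * (m * d))⁻¹ = g⁻¹ * (m * d * L.rep 3 * (m * d)⁻¹) * g by group,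
            h3, hg3]
        · rw [show g⁻¹ * (m * d) * u * (g⁻¹ * (m * d))⁻¹ = g⁻¹ * (m * d * u * (m * d)⁻¹) * g by group,
            Is.unique L hIu (L.is_mulF Ib6 Ic t3.symm),
            show g⁻¹ * (L.eltI (relI 7).2 * L.rep 3) * g = g⁻¹ * L.eltI (relI 7).2 * g * (g⁻¹ * L.rep 3 * g) by group,
            hg1, hg3]

/-- The facts of the closing step. -/
theorem model : Model z (L.rep 1) (L.rep 3) := by
  obtain ⟨⟨-, -, p3, p4⟩, -, -, ⟨s1, s3, n1, n3, n0, -⟩, -⟩ := check_pat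
  have Ib : L.Is (L.rep 1) (codeAt 1) := Is.rep L (by norm_num)
  have Ic : L.Is (L.rep 3) (codeAt 3) := Is.rep L (by norm_num)
  have ord : ∀ {t : T} {e : ℕ}, L.Is t e → mulF e e = cone → eqC e cone = false → orderOf t = 2 :=
    fun {t e} hI h1 h2 => orderOf_eq_prime (by rw [pow_two]; exact Is.unique L (L.is_mulF hI hI h1) (Is.one L))
      fun h => by rw [(L.eqC_iff hI (Is.one L)).2 h] at h2; exact Bool.false_ne_true h2.symm
  refine ⟨orderOf_eq_prime (by rw [pow_two]; exact L.z_sq) ?_, ord Ib s1 n1, ord Ic s3 n3,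
    Is.unique L (L.is_mulF Ib Ic p3) (L.is_mulF Ic Ib p4), ?_, ?_, H.node_cb, H.node_c, H.node_b⟩
  · intro e
    have := (L.eqC_iff (Is.rep L (show 0 < 10 by norm_num)) (Is.one L)).2 (L.rep_zero.trans e)
    rw [n0] at this
    exact Bool.false_ne_true this
  · intro x hx h2
    obtain ⟨k, hk, d, -, he⟩ := L.classify hx (by rw [← pow_two, ← h2, pow_orderOf_eq_one])
      (fun e => by rw [e, orderOf_one] at h2; norm_num at h2)
    have h : IsConj (L.rep (labRep (lab k))) x := (H.conj_labRep hk).symm.trans (isConj_iff.2 ⟨d, he⟩).symm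
    have hl : lab k = 0 ∨ lab k = 1 ∨ lab k = 2 := by interval_cases k <;> decide
    rcases hl with e | e | e <;> rw [e] at h
    · rw [show labRep 0 = 0 from rfl, L.rep_zero] at h; exact Or.inl h
    · exact Or.inr (Or.inl h)
    · exact Or.inr (Or.inr h)
  · have := H.zset_eq (W := (∅ : Set T)) (ws := []) fun i _ => ⟨fun _ w hw => hw.elim, fun _ => rfl⟩
    rw [show {v : T | IsConj z v ∧ v * z = z * v} = {v | (IsConj z v ∧ Fix (∅ : Set T) v) ∧ v * z = z * v} by
      ext v; exact ⟨fun h => ⟨⟨h.1, fun w hw => hw.elim⟩, h.2⟩, fun h => ⟨h.1.1, h.2⟩⟩, this]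
    exact Nat.odd_iff.2 check_odd.1

end Labels

end Coded

/-- **The closing step for the second Conway group.** A model with coded centraliser, embedded in a finite group with
the centraliser of `z` in the image and `z` fused to neither of the other two classes, is the whole group. -/
theorem range_eq_top {T : Type*} [Group T] {z : T} (L : Coded z) {g : T}
    (hfuse : ∀ p ∈ relP.take 7, IsConj (L.el p.1) (L.el p.2))
    (hswap : ∀ p ∈ relP.drop 7, g * L.el p.1 * g⁻¹ = L.el p.2)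
    (hbc : ¬ IsConj (L.rep 1) (L.rep 3))
    {G : Type*} [Group G] [Finite G] {φ : T →* G} (hφ : Function.Injective φ)
    (hC : ∀ x : G, x * φ z = φ z * x → x ∈ φ.range)
    (hb : ¬ IsConj (φ z) (φ (L.rep 1))) (hc : ¬ IsConj (φ z) (φ (L.rep 3))) : φ.range = ⊤ :=
  (Coded.Labels.model (L := L)
    ⟨hfuse, L.swap_of_pairs hswap, fun h => hb (φ.map_isConj h), fun h => hc (φ.map_isConj h), hbc⟩).range_eq_top
    hφ hC hb hc

end Cfsg.Agent.CoTwoClose
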