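/-
The closing step inside the second Conway group (owner: helper72).

* `gWord` : an involution fusing the classes of the centraliser, as a word
* `model_co2` : the model facts for `co2Group` with `base0`
* `range_eq_top_co2` : the closing step with `co2Group` as the model
-/
import Cfsg.Agent.Lib.CoTwoClose.NodeFacts
import Cfsg.Agent.Lib.CoTwoCert.TFacts

set_option autoImplicit false
set_option maxRecDepth 20000
set_option maxHeartbeats 1000000

namespace Cfsg.Agent.CoTwoClose

open CoTwoCert (base0 split0 z0 val pw sameW)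
open Leech (co2Group)

/-- The involution swapping the central involution with the transvection. -/
def gWord : List ℕ :=
  [11, 9, 16, 7, 6, 4, 16, 14, 13, 11, 10, 9, 8, 6, 3, 4, 5, 1, 3, 4, 2, 3, 0, 2, 1, 3, 4, 5, 6, 3, 0, 2, 1, 3,
    4, 0, 2, 1, 3, 1]

theorem check_gWord : relP.all (fun p => sameW (gWord ++ pw p.1) (pw p.2 ++ gWord)) = true := by decide +kernel

theorem gWord_conj {p : (ℕ × List (Fin 7)) × (ℕ × List (Fin 7))} (hp : p ∈ relP) :
    val gWord * base0.el p.1 * (val gWord)⁻¹ = base0.el p.2 := by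
  have h := CoTwoCert.eq_of_sameW (List.all_eq_true.1 check_gWord p hp)
  rw [CoTwoCert.val_append, CoTwoCert.val_append, ← CoTwoCert.base0_el, ← CoTwoCert.base0_el] at h
  exact mul_inv_eq_iff_eq_mul.2 h

/-- The representative of `b`. -/
def bP : ℕ × List (Fin 7) := (2, [])

/-- The representative of `c`. -/
def cP : ℕ × List (Fin 7) := (256, [0])

theorem rep_base0 : (ofBase base0 split0).rep 1 = base0.el bP ∧ (ofBase base0 split0).rep 3 = base0.el cP :=
  ⟨rfl, rfl⟩

theorem trW_bc : CoTwoCert.trW [15] = -64 ∧ CoTwoCert.trW (pw bP) = 64 ∧ CoTwoCert.trW (pw cP) = 0 ∧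
    (∀ k ∈ pw bP, k < 17) ∧ (∀ k ∈ pw cP, k < 17) := by decide +kernel

theorem tr8_bc : CoTwoCert.tr8 z0 = -64 ∧ CoTwoCert.tr8 (base0.el bP) = 64 ∧ CoTwoCert.tr8 (base0.el cP) = 0 := by
  obtain ⟨h1, h2, h3, h4, h5⟩ := trW_bc
  refine ⟨?_, ?_, ?_⟩
  · rw [show z0 = val [15] from (CoTwoCert.val_single 15).symm, CoTwoCert.tr8_val (by simp), h1]
  · rw [CoTwoCert.base0_el, CoTwoCert.tr8_val h4, h2]
  · rw [CoTwoCert.base0_el, CoTwoCert.tr8_val h5, h3]

theorem labels_co2 : (ofBase base0 split0).Labels := by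
  obtain ⟨t1, t2, t3⟩ := tr8_bc
  refine ⟨fun p hp => isConj_iff.2 ⟨_, gWord_conj (List.mem_of_mem_take hp)⟩,
    (ofBase base0 split0).swap_of_pairs fun p hp => gWord_conj (List.mem_of_mem_drop hp), ?_, ?_, ?_⟩
  · rw [rep_base0.1]; intro h; have := CoTwoCert.tr8_conj h; omega
  · rw [rep_base0.2]; intro h; have := CoTwoCert.tr8_conj h; omega
  · rw [rep_base0.1, rep_base0.2]; intro h; have := CoTwoCert.tr8_conj h; omega

/-- The model facts. -/
theorem model_co2 : Model z0 (base0.el bP) (base0.el cP) := by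
  have h := labels_co2.model
  rwa [rep_base0.1, rep_base0.2] at h

/-- **The closing step with the second Conway group as the model.** -/
theorem range_eq_top_co2 {G : Type*} [Group G] [Finite G] {φ : ↥co2Group →* G} (hφ : Function.Injective φ)
    (hC : ∀ x : G, x * φ z0 = φ z0 * x → x ∈ φ.range) (hb : ¬ IsConj (φ z0) (φ (base0.el bP)))
    (hc : ¬ IsConj (φ z0) (φ (base0.el cP))) : φ.range = ⊤ :=
  model_co2.range_eq_top hφ hC hb hc

end Cfsg.Agent.CoTwoClose
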