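import Cfsg.Agent.Lib.CoTwoClose.Gens

/-
The action of an involution swapping `z` with `b` on an element of order three commuting with both, from its
action on six vectors of the extraspecial group (helper57; data tools/co2/krel.txt).

* `Coded.eq_of_congr` : images of the basis modulo the centre determine the element of Sp6(2)
* `Coded.k_rel` : `g * k * g` is the element coded by `k2C`
-/

set_option autoImplicit false
set_option maxRecDepth 20000
set_option maxHeartbeats 1000000

namespace Cfsg.Agent.CoTwoClose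

open CoTwoType (qm bB prodBits)
open Multiplier.Sp6 (G0)

namespace KRel

/-- The code of a pair. -/
def pairC (p : ℕ × List ℕ) : ℕ := mulF (vecC p.1) (wordE p.2)

/-- The vectors, their images and the two local elements. -/
def rows : List (ℕ × ℕ × (ℕ × List ℕ) × (ℕ × List ℕ)) :=
  [(2, 146, (2, [4, 5, 3, 4, 2, 3, 0, 2, 1, 3, 4, 5, 6, 5, 4, 3, 2, 1, 3, 4, 5, 0, 2, 3, 4, 3]), (178, [1, 3, 4, 2, 3, 0, 2, 1, 3, 4, 5, 4, 3, 2, 1, 3, 4, 0, 2, 1, 3, 1])),
    (8, 104, (8, [3, 4, 5, 1, 3, 4, 2, 3, 0, 2, 1, 3, 4, 5, 6, 5, 4, 3, 2, 1, 3, 4, 5, 0, 2, 3, 4, 1, 3, 1]), (232, [2, 3, 0, 2, 1, 3, 4, 5, 6, 4, 3, 2, 1, 3, 4, 5, 3, 2, 1, 3, 4, 3, 2, 1, 3, 0, 2, 1, 0])),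
    (16, 386, (16, [6, 5, 1, 3, 4, 2, 3, 0, 2, 1, 3, 4, 5, 6, 5, 2, 3, 0, 2, 1, 3, 0, 2, 1, 0]), (386, [1, 3, 4, 5, 6, 2, 3, 0, 2, 1, 3, 4, 5, 3, 2, 1, 3, 4, 0, 2, 3, 1])),
    (32, 32, (32, []), (32, [])),
    (64, 296, (64, [4, 5, 6, 5, 4, 1]), (296, [4, 5, 6, 2, 3, 0, 2, 1, 3, 4, 5, 3, 2, 1, 3, 4, 0, 2])),
    (128, 128, (128, []), (128, []))]

/-- The code of the element of order three. -/
def kC : ℕ := pairC (0, [6, 2, 3, 4, 5, 0, 2, 3, 4, 2, 1, 3, 0, 2])

/-- The code of its image. -/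
def k2C : ℕ := pairC (0, [5, 6, 2, 3, 4, 5, 0, 2, 3, 4, 2, 1, 3, 0, 2, 0])

/-- The code of `b`. -/
def bC : ℕ := pairC (256, [2, 3, 0, 2, 1, 3, 4, 5, 6, 4, 5, 4, 3, 2, 1, 3, 0, 2, 0])

/-- The two words that may act as the image. -/
def sols : List (List (Fin 7)) := [[6, 0, 2, 3, 4, 5, 0, 2, 3, 4, 2, 1, 3, 0, 2], [5, 6, 2, 3, 4, 5, 0, 2, 3, 4, 2, 1, 3, 0, 2, 0]]

/-- The images of the basis modulo the centre, with the two free ones. -/
def img8 (i j : ℕ) : List ℕ := [i, 146, j, 104, 130, 32, 40, 128]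

/-- The squares and commutators of two vectors agree with those of two basis vectors. -/
def okPair (f : List ℕ) (S T : ℕ) : Bool :=
  bB (f.getD S 0) (f.getD S 0) == bB (1 <<< S) (1 <<< S) &&
    (bB (f.getD S 0) (f.getD T 0) != bB (f.getD T 0) (f.getD S 0)) ==
      (bB (1 <<< S) (1 <<< T) != bB (1 <<< T) (1 <<< S))

/-- The conditions on the first free image. -/
def ok1 (i : ℕ) : Bool := [1, 3, 4, 5, 6, 7].all fun T => okPair (img8 i 0) 0 T

/-- The conditions on both free images. -/
def ok2 (i j : ℕ) : Bool := [0, 1, 3, 4, 5, 6, 7].all fun T => okPair (img8 i j) 2 T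

/-- A word has the given images modulo the centre. -/
def sameImg (f : List ℕ) (l : List (Fin 7)) : Bool :=
  (List.range 8).all fun S => fM (wordE (l.map Fin.val)) S % 256 == f.getD S 0

theorem check_free1 : ∀ i < 256, ok1 i = true → i = 65 ∨ i = 97 := by decide +kernel

theorem check_free2 : ∀ i ∈ [65, 97], ∀ j < 256, ok2 i j = true → (sols.any fun l => sameImg (img8 i j) l) = true := by
  decide +kernel

theorem check_k_b : mulF kC bC = mulF bC kC := by decide +kernel

theorem check_cube : mulF (mulF kC kC) kC = cone := by decide +kernel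

theorem check_rows : ∀ r ∈ rows, r.1 < 512 ∧ r.2.1 < 512 ∧ mulF kC (pairC r.2.2.1) = mulF (pairC r.2.2.2) kC := by
  decide +kernel

theorem check_rowimg : ∀ i j, (rows.map fun r => (r.1, r.2.1 % 256)) = [(2, (img8 i j).getD 1 0),
    (8, (img8 i j).getD 3 0), (16, (img8 i j).getD 4 0), (32, (img8 i j).getD 5 0), (64, (img8 i j).getD 6 0),
    (128, (img8 i j).getD 7 0)] := fun _ _ => rfl

/-- A candidate satisfies the conditions. -/
def cand (c : ℕ) : Bool :=
  (rows.all fun r => Nat.beq (mulF c (vecC r.1)) (mulF (vecC r.2.1) c)) && Nat.beq (mulF (mulF c c) c) cone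

theorem check_sols_vec : (sols.all fun l => Nat.beq (fV (wordE (l.map Fin.val))) 0) = true := by decide +kernel

theorem check_last : ∀ v < 512, ∀ l ∈ sols, cand (mulF (vecC v) (wordE (l.map Fin.val))) = true →
    fV (mulF (vecC v) (wordE (l.map Fin.val))) = fV k2C ∧
      ∀ S < 8, fM (mulF (vecC v) (wordE (l.map Fin.val))) S = fM k2C S := by decide +kernel

end KRel

namespace Coded

variable {T : Type*} [Group T] {z : T} (L : Coded z)

theorem qm_mod (a b : ℕ) : qm a b % 256 = a % 256 ^^^ b % 256 := by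
  rw [qm, show (256 : ℕ) = 2 ^ 8 from rfl, Nat.xor_mod_two_pow, Nat.xor_mod_two_pow]
  cases bB a b <;> simp

theorem prodBits_mod {f f' : ℕ → ℕ} (v : ℕ) : ∀ n, (∀ S < n, f S % 256 = f' S % 256) →
    prodBits f v n % 256 = prodBits f' v n % 256
  | 0, _ => rfl
  | n + 1, h => by
    simp only [prodBits]
    cases v.testBit n
    · exact prodBits_mod v n fun S hS => h S (by omega)
    · simp only [cond_true]
      rw [qm_mod, qm_mod, prodBits_mod v n (fun S hS => h S (by omega)), h n (by omega)]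

theorem appC_mod {e f : ℕ} (h : ∀ S < 8, fM e S % 256 = fM f S % 256) (v : ℕ) :
    appC e v % 256 = appC f v % 256 := by
  rw [appC, appC, qm_mod, qm_mod, prodBits_mod v 8 h]

/-- Images of the basis modulo the centre determine the element of Sp6(2). -/
theorem eq_of_congr {g h : G0} {e f : ℕ}
    (hg : ∀ S < 8, L.psi g * L.x (1 <<< S) * (L.psi g)⁻¹ = L.x (fM e S))
    (hh : ∀ S < 8, L.psi h * L.x (1 <<< S) * (L.psi h)⁻¹ = L.x (fM f S))
    (he : ∀ S < 8, fM e S % 256 = fM f S % 256) : g = h := by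
  have hm : h⁻¹ * g ∈ L.trivAct := by
    intro a ha
    have e1 := L.conj_app (L.psi_comm_z g) hg ha
    have e2 := L.conj_app (L.psi_comm_z h) hh ha
    have hz : (L.psi h)⁻¹ * z * L.psi h = z := by rw [mul_assoc, ← L.psi_comm_z, inv_mul_cancel_left]
    have e3 : L.psi (h⁻¹ * g) * L.x a * (L.psi (h⁻¹ * g))⁻¹ =
        (L.psi h)⁻¹ * L.x (appC e a) * L.psi h := by rw [← e1, map_mul, map_inv]; group
    have e4 : (L.psi h)⁻¹ * L.x (appC f a) * L.psi h = L.x a := by rw [← e2]; group
    have hm' := appC_mod he a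
    have hpq : appC e a = appC f a ∨ appC e a = appC f a ^^^ 256 := by
      have key : ∀ p < 512, ∀ q < 512, p % 256 = q % 256 → p = q ∨ p = q ^^^ 256 := by
        intro p hp q hq hpq
        have hx : ∀ r < 256, r ^^^ 256 = r + 256 ∧ (r + 256) ^^^ 256 = r := by decide +kernel
        rcases lt_or_ge p 256 with hp' | hp' <;> rcases lt_or_ge q 256 with hq' | hq'
        · exact Or.inl (by omega)
        · refine Or.inr ?_
          have := (hx p hp').2
          rw [show q = p + 256 by omega, this]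
        · refine Or.inr ?_
          have := (hx q hq').1
          omega
        · exact Or.inl (by omega)
      exact key _ (appC_lt e a) _ (appC_lt f a) hm'
    rcases hpq with h1 | h1
    · exact Or.inl (by rw [e3, h1, e4])
    · refine Or.inr ?_
      rw [e3, h1, ← check_qm_z _ (appC_lt f a), ← L.x_mul_z (appC_lt f a)]
      calc (L.psi h)⁻¹ * (L.x (appC f a) * z) * L.psi h
            = (L.psi h)⁻¹ * L.x (appC f a) * L.psi h * ((L.psi h)⁻¹ * z * L.psi h) := by group
        _ = L.x a * z := by rw [e4, hz]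
  rw [L.trivAct_eq_bot, Subgroup.mem_bot] at hm
  exact (inv_mul_eq_one.1 hm).symm

theorem appC_bit : ∀ {e : ℕ} {g : G0}, (∀ S < 8, L.psi g * L.x (1 <<< S) * (L.psi g)⁻¹ = L.x (fM e S)) →
    ∀ S < 8, appC e (1 <<< S) = fM e S := fun {e g} hg S hS =>
  L.x_inj _ (appC_lt e _) _ (fM_lt e S)
    ((L.conj_app (L.psi_comm_z g) hg (bit_lt hS)).symm.trans (hg S hS))

/-- Squares and commutators are preserved. -/
theorem okPair_imgs {e : ℕ} {g : G0} (hg : ∀ S < 8, L.psi g * L.x (1 <<< S) * (L.psi g)⁻¹ = L.x (fM e S))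
    {f : List ℕ} (hf : ∀ S < 8, f.getD S 0 = fM e S % 256) {S U : ℕ} (hS : S < 8) (hU : U < 8) :
    KRel.okPair f S U = true := by
  have hb : ∀ p q, bB (p % 256) (q % 256) = bB p q := fun p q => by
    simp only [bB, show (256 : ℕ) = 2 ^ 8 from rfl, Nat.testBit_mod_two_pow]
    simp
  have hc : ∀ p < 512, ∀ q < 512, ∀ r < 512, ∀ t < 512, L.psi g * L.x p * (L.psi g)⁻¹ = L.x r →
      L.psi g * L.x q * (L.psi g)⁻¹ = L.x t → L.psi g * L.x (qm p q) * (L.psi g)⁻¹ = L.x (qm r t) := by
    intro p hp q hq r hr t ht h1 h2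
    rw [← L.x_mul p hp q hq, ← L.x_mul r hr t ht, ← h1, ← h2]
    group
  have hS' := hg S hS
  have hU' := hg U hU
  have hfs := fM_lt e S
  have hfu := fM_lt e U
  have bS := bit_lt hS
  have bU := bit_lt hU
  have hz : L.psi g * z * (L.psi g)⁻¹ = z := by rw [L.psi_comm_z, mul_inv_cancel_right]
  have h256 : L.x 256 ≠ 1 := fun h =>
    absurd (L.x_inj 256 (by norm_num) 0 (by norm_num) (h.trans L.x_zero.symm)) (by norm_num)
  have sq : bB (fM e S) (fM e S) = bB (1 <<< S) (1 <<< S) := by
    have h1 := hc _ bS _ bS _ hfs _ hfs hS' hS'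
    rw [qm, qm, Nat.xor_self, Nat.xor_self, Nat.zero_xor, Nat.zero_xor] at h1
    cases h2 : bB (1 <<< S) (1 <<< S) <;> cases h3 : bB (fM e S) (fM e S) <;> rw [h2, h3] at h1 <;>
      simp only [cond_true, cond_false, L.x_zero, L.x_z, hz, mul_one, mul_inv_cancel] at h1 <;>
      first | rfl | exact absurd (L.x_z.trans h1.symm) h256 | exact absurd (L.x_z.trans h1) h256
  have com : (bB (fM e S) (fM e U) != bB (fM e U) (fM e S)) =
      (bB (1 <<< S) (1 <<< U) != bB (1 <<< U) (1 <<< S)) := by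
    have h1 := hc _ bS _ bU _ hfs _ hfu hS' hU'
    have h2 := hc _ bU _ bS _ hfu _ hfs hU' hS'
    have flip : ∀ p q, p < 512 → q < 512 →
        qm p q = bif bB p q != bB q p then qm (qm q p) 256 else qm q p := by
      intro p q hp hq
      have h3 := check_qm_z _ (qm_lt hq hp)
      rw [h3]
      simp only [qm, Nat.xor_comm q p]
      cases bB p q <;> cases bB q p <;> simp [Nat.xor_assoc]
    rw [flip _ _ bS bU, flip _ _ hfs hfu] at h1
    have hne : ∀ p < 512, L.x (qm p 256) ≠ L.x p := fun p hp h => by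
      have := L.x_inj _ (qm_lt hp (by norm_num)) _ hp h
      rw [check_qm_z p hp] at this
      have h4 := congrArg (· ^^^ p) this
      simp [Nat.xor_comm p 256, Nat.xor_assoc] at h4
    have hzq : L.psi g * L.x (qm (qm (1 <<< U) (1 <<< S)) 256) * (L.psi g)⁻¹ =
        L.x (qm (qm (fM e U) (fM e S)) 256) := by
      refine hc _ (qm_lt bU bS) _ (by norm_num) _ (qm_lt hfu hfs) _ (by norm_num) h2 ?_
      rw [L.x_z]
      exact hz
    cases h4 : (bB (1 <<< S) (1 <<< U) != bB (1 <<< U) (1 <<< S)) <;>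
      cases h5 : (bB (fM e S) (fM e U) != bB (fM e U) (fM e S)) <;> rw [h4, h5] at h1 <;>
      simp only [cond_true, cond_false] at h1 <;>
      first
        | rfl
        | exact absurd (h1.symm.trans h2) (hne _ (qm_lt hfu hfs))
        | exact absurd (hzq.symm.trans h1) (hne _ (qm_lt hfu hfs))
  simp only [KRel.okPair, hf S hS, hf U hU, hb, sq, com, beq_self_eq_true, Bool.and_true]

/-- The fields rebuilt. -/
def norm (e : ℕ) : ℕ :=
  pack (fV e) (fM e 0) (fM e 1) (fM e 2) (fM e 3) (fM e 4) (fM e 5) (fM e 6) (fM e 7)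

theorem norm_cmul (e f : ℕ) : norm (cmul e f) = cmul e f := by
  have hp := fM_pack (qm_lt (fV_lt e) (appC_lt e (fV f))) (f := fun S => appC e (fM f S)) (fun S => appC_lt e _)
  simp only [norm, cmul, fV_pack (qm_lt (fV_lt e) (appC_lt e (fV f))), hp 0 (by norm_num), hp 1 (by norm_num),
    hp 2 (by norm_num), hp 3 (by norm_num), hp 4 (by norm_num), hp 5 (by norm_num), hp 6 (by norm_num),
    hp 7 (by norm_num)]

theorem norm_cone : norm cone = cone := by decide +kernel

include L in
/-- Equal elements have equal rebuilt codes. -/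
theorem code_eq {t u : T} {e f : ℕ} (ht : L.Is t e) (hu : L.Is u f) (h : t = u) : norm e = norm f := by
  obtain ⟨h1, h2⟩ := (L.eq_iff ht hu).1 h
  simp only [norm, h1, h2 0 (by norm_num), h2 1 (by norm_num), h2 2 (by norm_num), h2 3 (by norm_num),
    h2 4 (by norm_num), h2 5 (by norm_num), h2 6 (by norm_num), h2 7 (by norm_num)]

include L in
theorem beq_cmul {t u : T} {e f e' f' : ℕ} (ht : L.Is t (cmul e f)) (hu : L.Is u (cmul e' f')) (h : t = u) :
    Nat.beq (cmul e f) (cmul e' f') = true := by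
  have := L.code_eq ht hu h
  rw [norm_cmul, norm_cmul] at this
  rw [this]
  exact Nat.beq_refl _

include L in
theorem beq_of_eq {t u : T} {e f : ℕ} (ht : L.Is t e) (hu : L.Is u f) (he : norm e = e) (hf : norm f = f)
    (h : t = u) : Nat.beq e f = true := by
  rw [← he, ← hf, L.code_eq ht hu h]
  exact Nat.beq_refl _

open KRel in
/-- **The image of the element of order three.** -/
theorem k_rel {g k : T} (hg : g * g = 1) (hb : L.Is (g * z * g) bC)
    (hrow : ∀ r ∈ rows, ∃ m m', L.Is m (pairC r.2.2.1) ∧ L.Is m' (pairC r.2.2.2) ∧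
      g * L.x r.1 * g = m ∧ g * m' * g = L.x r.2.1)
    (hk : L.Is k kC) : L.Is (g * k * g) k2C := by
  have hgi : g⁻¹ = g := inv_eq_of_mul_eq_one_right hg
  have hkb : k * (g * z * g) = g * z * g * k :=
    (L.eq_iff (Is.mul L hk hb) (Is.mul L hb hk)).2 (by
      rw [← mulF_eq, ← mulF_eq, check_k_b]; exact ⟨rfl, fun _ _ => rfl⟩)
  have hyz : g * k * g * z = z * (g * k * g) := by
    calc g * k * g * z = g * (k * (g * z * g)) * (g⁻¹) := by group
      _ = g * (g * z * g * k) * g := by rw [hkb, hgi]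
      _ = g * g * z * (g * k * g) := by simp only [mul_assoc]
      _ = z * (g * k * g) := by rw [hg, one_mul]
  obtain ⟨e, he⟩ := L.exists_is hyz
  obtain ⟨g0, hy, hge⟩ := he
  set v := fV e with hv'
  have hv : v < 512 := fV_lt e
  -- conjugation by the image on the six vectors
  have hconj : ∀ r ∈ rows, g * k * g * L.x r.1 = L.x r.2.1 * (g * k * g) := by
    intro r hr
    obtain ⟨m, m', hm, hm', e1, e2⟩ := hrow r hr
    have h := (L.eq_iff (Is.mul L hk hm) (Is.mul L hm' hk)).2 (by
      rw [← mulF_eq, ← mulF_eq, (check_rows r hr).2.2]; exact ⟨rfl, fun _ _ => rfl⟩)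
    have e1' : g * L.x r.1 = m * g := by rw [← e1, mul_assoc, hg, mul_one]
    calc g * k * g * L.x r.1 = g * (k * m) * g := by rw [mul_assoc (g * k), e1']; group
      _ = g * (m' * k) * g := by rw [h]
      _ = g * m' * g * (g * k * g) := by
        calc g * (m' * k) * g = g * m' * (g * g) * k * g := by rw [hg]; group
          _ = g * m' * g * (g * k * g) := by group
      _ = L.x r.2.1 * (g * k * g) := by rw [e2]
  have himg : ∀ r ∈ rows, ∀ S < 8, r.1 = 1 <<< S → fM e S % 256 = r.2.1 % 256 := by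
    intro r hr S hS hw
    have h := hconj r hr
    rw [hy, hw, mul_assoc,
      show L.psi g0 * L.x (1 <<< S) = L.x (fM e S) * L.psi g0 by rw [← hge S hS]; group,
      ← mul_assoc, ← mul_assoc, mul_left_inj, L.x_mul v hv _ (fM_lt e S),
      L.x_mul _ (check_rows r hr).2.1 v hv] at h
    have h' := congrArg (· % 256) (L.x_inj _ (qm_lt hv (fM_lt e S)) _ (qm_lt (check_rows r hr).2.1 hv) h)
    simp only [qm_mod] at h'
    rw [Nat.xor_comm (r.2.1 % 256)] at h'
    exact Nat.xor_right_injective h'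
  set i := fM e 0 % 256 with hi
  set j := fM e 2 % 256 with hj
  have hf : ∀ S < 8, (img8 i j).getD S 0 = fM e S % 256 := by
    have hmap := check_rowimg i j
    have key : ∀ S < 8, ∀ w, (1 <<< S, w) ∈ rows.map (fun r => (r.1, r.2.1 % 256)) → fM e S % 256 = w := by
      intro S hS w hw
      obtain ⟨r, hr, he'⟩ := List.mem_map.1 hw
      simp only [Prod.mk.injEq] at he'
      rw [himg r hr S hS he'.1, he'.2]
    rw [hmap] at key
    intro S hS
    interval_cases S
    · rfl
    · exact (key 1 (by norm_num) _ (by simp)).symm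
    · rfl
    · exact (key 3 (by norm_num) _ (by simp)).symm
    · exact (key 4 (by norm_num) _ (by simp)).symm
    · exact (key 5 (by norm_num) _ (by simp)).symm
    · exact (key 6 (by norm_num) _ (by simp)).symm
    · exact (key 7 (by norm_num) _ (by simp)).symm
  have hi65 : i = 65 ∨ i = 97 := by
    refine check_free1 i (Nat.mod_lt _ (by norm_num)) ?_
    simp only [ok1, List.all_eq_true]
    intro U hU
    have hU8 : U < 8 := by simp at hU; omega
    have h := L.okPair_imgs hge hf (S := 0) (U := U) (by norm_num) hU8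
    have e1 : (img8 i 0).getD U 0 = (img8 i j).getD U 0 := by
      fin_cases hU <;> rfl
    simp only [KRel.okPair] at h ⊢
    rw [e1]
    exact h
  have hij : (sols.any fun l => sameImg (img8 i j) l) = true := by
    refine check_free2 i (by simpa using hi65) j (Nat.mod_lt _ (by norm_num)) ?_
    simp only [ok2, List.all_eq_true]
    intro U hU
    have hU8 : U < 8 := by simp at hU; omega
    exact L.okPair_imgs hge hf (S := 2) (U := U) (by norm_num) hU8
  obtain ⟨l, hl, hsame⟩ := List.any_eq_true.1 hij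
  obtain ⟨g3, hg3, hgl⟩ := (Is.word L : L.Is (l.map L.h).prod _)
  simp only [sameImg, List.all_eq_true, List.mem_range, beq_iff_eq] at hsame
  obtain rfl : g0 = g3 := L.eq_of_congr hge hgl fun S hS => by rw [hsame S hS, hf S hS]
  have hl0 : fV (wordE (l.map Fin.val)) = 0 := by
    have := List.all_eq_true.1 check_sols_vec l hl
    exact Nat.eq_of_beq_eq_true this
  have hIs : L.Is (g * k * g) (mulF (vecC v) (wordE (l.map Fin.val))) := by
    rw [mulF_eq, hy]
    refine Is.mul L (Is.vec L hv) ⟨g0, ?_, hgl⟩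
    rw [hl0, L.x_zero, one_mul]
  have hcand : cand (mulF (vecC v) (wordE (l.map Fin.val))) = true := by
    simp only [cand, Bool.and_eq_true, List.all_eq_true]
    refine ⟨fun r hr => ?_, ?_⟩
    · obtain ⟨h1, h2, -⟩ := check_rows r hr
      rw [mulF_eq _ (vecC r.1), mulF_eq (vecC r.2.1)]
      exact L.beq_cmul (Is.mul L hIs (Is.vec L h1)) (Is.mul L (Is.vec L h2) hIs) (hconj r hr)
    · rw [mulF_eq (mulF _ _), mulF_eq (mulF (vecC v) _) (mulF (vecC v) _)]
      refine L.beq_of_eq (Is.mul L (Is.mul L hIs hIs) hIs) (Is.one L) (norm_cmul _ _) norm_cone ?_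
      have h3 : k * k * k = 1 := (L.eq_iff (Is.mul L (Is.mul L hk hk) hk) (Is.one L)).2 (by
        rw [← mulF_eq, ← mulF_eq, check_cube]; exact ⟨rfl, fun _ _ => rfl⟩)
      calc g * k * g * (g * k * g) * (g * k * g) = g * k * (g * g) * k * (g * g) * k * g := by group
        _ = g * (k * k * k) * g := by rw [hg]; group
        _ = 1 := by rw [h3, mul_one, hg]
  obtain ⟨h1, h2⟩ := check_last v hv l hl hcand
  obtain ⟨g4, e4, h4⟩ := hIs
  exact ⟨g4, by rw [← h1]; exact e4, fun S hS => by rw [← h2 S hS]; exact h4 S hS⟩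

end Coded

end Cfsg.Agent.CoTwoClose
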